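import Mathlib

set_option autoImplicit false

namespace Cfsg.Agent.Lib.Helper21.CoxA

lemma braid_of_cube {X : Type*} [Group X] (a b : X) (ha : a * a = 1) (hb : b * b = 1)
    (h1 : (a * b) ^ 3 = 1) : b * a * b = a * b * a := by
  have hai : a⁻¹ = a := (eq_inv_of_mul_eq_one_right ha).symm
  have hbi : b⁻¹ = b := (eq_inv_of_mul_eq_one_right hb).symm
  have h2 : a * b * a * (b * a * b) = 1 := by
    rw [← h1]; simp only [pow_succ, pow_zero, one_mul, mul_assoc]
  have h3 : a * b * a = (b * a * b)⁻¹ := eq_inv_of_mul_eq_one_left h2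
  rw [h3, mul_inv_rev, mul_inv_rev, hai, hbi, mul_assoc]

lemma pow_swap {X : Type*} [Group X] (a b : X) (m : ℕ) (h : (b * a) ^ m = 1) :
    (a * b) ^ m = 1 := by
  have e : a * b = b⁻¹ * (b * a) * b⁻¹⁻¹ := by group
  rw [e, conj_pow, h]
  group

lemma sq_of_commute {X : Type*} [Group X] (a b : X) (ha : a * a = 1) (hb : b * b = 1)
    (h : a * b = b * a) : (a * b) ^ 2 = 1 := by
  rw [pow_two]
  calc a * b * (a * b) = a * (b * a) * b := by group
    _ = a * (a * b) * b := by rw [h]
    _ = (a * a) * (b * b) := by group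
    _ = 1 := by rw [ha, hb, one_mul]

/-- The Coxeter group of type `A n`. -/
abbrev W (n : ℕ) := (CoxeterMatrix.A n).Group

noncomputable abbrev cx (n : ℕ) : CoxeterSystem (CoxeterMatrix.A n) (W n) :=
  (CoxeterMatrix.A n).toCoxeterSystem

/-- generators indexed by natural numbers -/
noncomputable def σ (n j : ℕ) : W n := if h : j < n then (cx n).simple ⟨j, h⟩ else 1

lemma σ_of_lt {n j : ℕ} (h : j < n) : σ n j = (cx n).simple ⟨j, h⟩ := dif_pos h

lemma σ_of_not_lt {n j : ℕ} (h : ¬ j < n) : σ n j = 1 := dif_neg h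

lemma σ_sq (n j : ℕ) : σ n j * σ n j = 1 := by
  by_cases h : j < n
  · rw [σ_of_lt h]
    exact (cx n).simple_mul_simple_self _
  · rw [σ_of_not_lt h, one_mul]

lemma A_two (n : ℕ) (i j : Fin n) (h : (i : ℕ) + 2 ≤ j) : CoxeterMatrix.A n i j = 2 := by
  have h1 : i ≠ j := by intro e; rw [e] at h; omega
  have h2 : ¬ ((j : ℕ) + 1 = i ∨ (i : ℕ) + 1 = j) := by omega
  simp [CoxeterMatrix.A, h1, h2]

lemma A_three (n : ℕ) (i j : Fin n) (h : (i : ℕ) + 1 = j) : CoxeterMatrix.A n i j = 3 := by
  have h1 : i ≠ j := by intro e; rw [e] at h; omega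
  simp [CoxeterMatrix.A, h1, h]

lemma A_castSucc (n : ℕ) (i j : Fin n) :
    CoxeterMatrix.A n i j = CoxeterMatrix.A (n + 1) i.castSucc j.castSucc := by
  simp [CoxeterMatrix.A]

lemma σ_comm (n : ℕ) {i j : ℕ} (h : i + 2 ≤ j) : σ n i * σ n j = σ n j * σ n i := by
  by_cases hj : j < n
  · have hi : i < n := by omega
    have h1 := (cx n).simple_mul_simple_pow ⟨i, hi⟩ ⟨j, hj⟩
    rw [A_two n ⟨i, hi⟩ ⟨j, hj⟩ h, ← σ_of_lt hi, ← σ_of_lt hj, pow_two] at h1
    have hi2 := σ_sq n i
    have hj2 := σ_sq n j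
    calc σ n i * σ n j = σ n i * σ n j * (σ n i * σ n j * (σ n j * σ n i)) := by
          rw [show σ n i * σ n j * (σ n j * σ n i) = σ n i * (σ n j * σ n j) * σ n i by group,
            hj2, mul_one, hi2, mul_one]
      _ = (σ n i * σ n j * (σ n i * σ n j)) * (σ n j * σ n i) := by group
      _ = σ n j * σ n i := by rw [h1, one_mul]
  · rw [σ_of_not_lt hj, one_mul, mul_one]

lemma σ_braid (n : ℕ) {j : ℕ} (h : j + 1 < n) :
    σ n (j + 1) * σ n j * σ n (j + 1) = σ n j * σ n (j + 1) * σ n j := by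
  have hj : j < n := by omega
  have h1 := (cx n).simple_mul_simple_pow ⟨j, hj⟩ ⟨j + 1, h⟩
  rw [A_three n ⟨j, hj⟩ ⟨j + 1, h⟩ rfl, ← σ_of_lt hj, ← σ_of_lt h] at h1
  exact braid_of_cube _ _ (σ_sq n j) (σ_sq n (j + 1)) h1

/-- The natural map `W n → W (n+1)`. -/
noncomputable def ι (n : ℕ) : W n →* W (n + 1) :=
  (cx n).lift ⟨fun i => (cx (n + 1)).simple i.castSucc, by
    intro i i'
    rw [A_castSucc]
    exact (cx (n + 1)).simple_mul_simple_pow _ _⟩

lemma ι_σ (n : ℕ) {j : ℕ} (h : j < n) : ι n (σ n j) = σ (n + 1) j := by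
  rw [σ_of_lt h, σ_of_lt (show j < n + 1 by omega)]
  exact (cx n).lift_apply_simple _ _

/-- `v N d = σ (N-1) σ (N-2) ⋯ σ (N-d)`. -/
noncomputable def v (N : ℕ) : ℕ → W N
  | 0 => 1
  | d + 1 => v N d * σ N (N - 1 - d)

lemma v_succ (N d : ℕ) : v N (d + 1) = v N d * σ N (N - 1 - d) := rfl

lemma v_comm (N : ℕ) : ∀ (d j : ℕ), j + 1 + d < N → σ N j * v N d = v N d * σ N j
  | 0, j, _ => by rw [show v N 0 = 1 from rfl, mul_one, one_mul]
  | d + 1, j, h => by
    rw [v_succ, ← mul_assoc, v_comm N d j (by omega), mul_assoc,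
      σ_comm N (show j + 2 ≤ N - 1 - d by omega), mul_assoc]

lemma v_shift (k a : ℕ) : ∀ e : ℕ, e ≤ k →
    v (k + 2 + a) (a + 2 + e) * σ (k + 2 + a) (k + 1) = σ (k + 2 + a) k * v (k + 2 + a) (a + 2 + e)
  | 0, _ => by
    have e1 : v (k + 2 + a) (a + 2 + 0) = v (k + 2 + a) a * σ (k + 2 + a) (k + 1) * σ (k + 2 + a) k := by
      show v (k + 2 + a) (a + 1 + 1) = _
      rw [v_succ, v_succ, show k + 2 + a - 1 - (a + 1) = k by omega,
        show k + 2 + a - 1 - a = k + 1 by omega]
    rw [e1, ← mul_assoc (σ (k + 2 + a) k), ← mul_assoc (σ (k + 2 + a) k),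
      v_comm (k + 2 + a) a k (by omega)]
    have hb := σ_braid (k + 2 + a) (j := k) (by omega)
    calc v (k + 2 + a) a * σ (k + 2 + a) (k + 1) * σ (k + 2 + a) k * σ (k + 2 + a) (k + 1)
        = v (k + 2 + a) a * (σ (k + 2 + a) (k + 1) * σ (k + 2 + a) k * σ (k + 2 + a) (k + 1)) := by
          group
      _ = v (k + 2 + a) a * (σ (k + 2 + a) k * σ (k + 2 + a) (k + 1) * σ (k + 2 + a) k) := by
          rw [hb]
      _ = _ := by group
  | e + 1, h => by
    have e1 : v (k + 2 + a) (a + 2 + (e + 1))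
        = v (k + 2 + a) (a + 2 + e) * σ (k + 2 + a) (k - 1 - e) := by
      show v (k + 2 + a) (a + 2 + e + 1) = _
      rw [v_succ, show k + 2 + a - 1 - (a + 2 + e) = k - 1 - e by omega]
    rw [e1, mul_assoc, σ_comm (k + 2 + a) (show k - 1 - e + 2 ≤ k + 1 by omega), ← mul_assoc,
      v_shift k a e (by omega), mul_assoc]

lemma closed (n : ℕ) (x : W n) (d : ℕ) (hd : d ≤ n + 1) (j : ℕ) (hj : j < n + 1) :
    ∃ (y : W n) (d' : ℕ), d' ≤ n + 1 ∧ ι n x * v (n + 1) d * σ (n + 1) j = ι n y * v (n + 1) d' := by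
  rcases lt_trichotomy (j + 1 + d) (n + 1) with h | h | h
  · refine ⟨x * σ n j, d, hd, ?_⟩
    rw [map_mul, ι_σ n (by omega), mul_assoc, mul_assoc, v_comm (n + 1) d j h]
  · refine ⟨x, d + 1, by omega, ?_⟩
    rw [v_succ, show n + 1 - 1 - d = j by omega, mul_assoc]
  · by_cases h2 : j + d = n + 1
    · obtain ⟨d0, rfl⟩ : ∃ d0, d = d0 + 1 := ⟨d - 1, by omega⟩
      refine ⟨x, d0, by omega, ?_⟩
      rw [v_succ, show n + 1 - 1 - d0 = j by omega, mul_assoc, mul_assoc, σ_sq, mul_one]
    · obtain ⟨k, rfl⟩ : ∃ k, j = k + 1 := ⟨j - 1, by omega⟩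
      obtain ⟨a, ha⟩ : ∃ a, n + 1 = k + 2 + a := ⟨n + 1 - (k + 2), by omega⟩
      obtain ⟨e, he⟩ : ∃ e, d = a + 2 + e := ⟨d - (a + 2), by omega⟩
      refine ⟨x * σ n k, d, hd, ?_⟩
      rw [map_mul, ι_σ n (by omega), mul_assoc, mul_assoc]
      congr 1
      rw [he, ha]
      exact v_shift k a e (by omega)

lemma exists_form (n : ℕ) (w : W (n + 1)) :
    ∃ (x : W n) (d : ℕ), d ≤ n + 1 ∧ w = ι n x * v (n + 1) d := by
  induction w using (cx (n + 1)).simple_induction_right with
  | one => exact ⟨1, 0, by omega, by rw [map_one, one_mul]; rfl⟩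
  | mul_simple_right w i ih =>
    obtain ⟨x, d, hd, rfl⟩ := ih
    have := closed n x d hd i.1 i.2
    rw [σ_of_lt i.2] at this
    exact this

lemma finite_and_card : ∀ n : ℕ, Finite (W n) ∧ Nat.card (W n) ≤ (n + 1).factorial
  | 0 => by
    have h : ∀ w : W 0, w = 1 := by
      intro w
      induction w using (cx 0).simple_induction_right with
      | one => rfl
      | mul_simple_right w i ih => exact i.elim0
    haveI : Subsingleton (W 0) := ⟨fun a b => by rw [h a, h b]⟩
    exact ⟨inferInstance, by rw [Nat.card_of_subsingleton (1 : W 0)]; decide⟩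
  | n + 1 => by
    obtain ⟨hfin, hcard⟩ := finite_and_card n
    haveI := hfin
    let φ : W n × Fin (n + 2) → W (n + 1) := fun t => ι n t.1 * v (n + 1) t.2
    have hφ : Function.Surjective φ := by
      intro w
      obtain ⟨x, d, hd, rfl⟩ := exists_form n w
      exact ⟨(x, ⟨d, by omega⟩), rfl⟩
    refine ⟨Finite.of_surjective φ hφ, ?_⟩
    have h1 := Nat.card_le_card_of_surjective φ hφ
    rw [Nat.card_prod, Nat.card_eq_fintype_card (α := Fin (n + 2)), Fintype.card_fin] at h1
    calc Nat.card (W (n + 1)) ≤ Nat.card (W n) * (n + 2) := h1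
      _ ≤ (n + 1).factorial * (n + 2) := Nat.mul_le_mul_right _ hcard
      _ = (n + 1 + 1).factorial := by rw [Nat.factorial_succ (n + 1)]; ring

lemma swap_liftable (n : ℕ) : (CoxeterMatrix.A n).IsLiftable
    (fun i : Fin n => (Equiv.swap i.castSucc i.succ : Equiv.Perm (Fin (n + 1)))) := by
  have key : ∀ i j : Fin n, (i : ℕ) < j →
      ((Equiv.swap i.castSucc i.succ : Equiv.Perm (Fin (n + 1))) * Equiv.swap j.castSucc j.succ)
        ^ (CoxeterMatrix.A n i j) = 1 := by
    intro i j hij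
    by_cases h1 : (i : ℕ) + 1 = j
    · rw [A_three n i j h1]
      have e : j.castSucc = i.succ := by
        apply Fin.ext
        simp [← h1]
      rw [e, Equiv.swap_comm i.castSucc i.succ]
      have h3 : (Equiv.swap i.succ i.castSucc * Equiv.swap i.succ j.succ).IsThreeCycle := by
        apply Equiv.Perm.isThreeCycle_swap_mul_swap_same
        · intro e2
          have := congrArg Fin.val e2
          simp at this
        · intro e2
          have := congrArg Fin.val e2
          simp at this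
          omega
        · intro e2
          have := congrArg Fin.val e2
          simp at this
          omega
      rw [← h3.orderOf]
      exact pow_orderOf_eq_one _
    · rw [A_two n i j (by omega)]
      have hd : Equiv.Perm.Disjoint (Equiv.swap i.castSucc i.succ : Equiv.Perm (Fin (n + 1)))
          (Equiv.swap j.castSucc j.succ) := by
        rw [Equiv.Perm.disjoint_iff_disjoint_support, Equiv.Perm.support_swap (by
          intro e2
          have := congrArg Fin.val e2
          simp at this), Equiv.Perm.support_swap (by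
          intro e2
          have := congrArg Fin.val e2
          simp at this)]
        simp only [Finset.disjoint_insert_left, Finset.disjoint_singleton_left, Finset.mem_insert,
          Finset.mem_singleton, Fin.ext_iff, Fin.val_castSucc, Fin.val_succ]
        omega
      exact sq_of_commute _ _ (Equiv.swap_mul_self _ _) (Equiv.swap_mul_self _ _) hd.commute.eq
  intro i j
  rcases lt_trichotomy (i : ℕ) j with h | h | h
  · exact key i j h
  · have : i = j := Fin.ext h
    subst this
    rw [(CoxeterMatrix.A n).diagonal, pow_one, Equiv.swap_mul_self]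
  · have h1 := key j i h
    rw [(CoxeterMatrix.A n).symmetric] at h1
    exact pow_swap _ _ _ h1

/-- The natural map onto the symmetric group. -/
noncomputable def toPerm (n : ℕ) : W n →* Equiv.Perm (Fin (n + 1)) :=
  (cx n).lift ⟨_, swap_liftable n⟩

lemma toPerm_simple (n : ℕ) (i : Fin n) :
    toPerm n ((cx n).simple i) = Equiv.swap i.castSucc i.succ :=
  (cx n).lift_apply_simple _ _

lemma toPerm_bijective (n : ℕ) : Function.Bijective (toPerm n) := by
  obtain ⟨hfin, hcard⟩ := finite_and_card n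
  haveI := hfin
  have hs : Function.Surjective (toPerm n) := by
    rw [← MonoidHom.mrange_eq_top, eq_top_iff, ← Equiv.Perm.mclosure_swap_castSucc_succ n,
      Submonoid.closure_le]
    rintro _ ⟨i, rfl⟩
    exact ⟨(cx n).simple i, toPerm_simple n i⟩
  apply hs.bijective_of_nat_card_le
  rw [Nat.card_eq_fintype_card (α := Equiv.Perm (Fin (n + 1))), Fintype.card_perm, Fintype.card_fin]
  exact hcard

/-- The Coxeter system on the symmetric group. -/
noncomputable def permSystem (n : ℕ) :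
    CoxeterSystem (CoxeterMatrix.A n) (Equiv.Perm (Fin (n + 1))) :=
  ⟨(MulEquiv.ofBijective (toPerm n) (toPerm_bijective n)).symm⟩

lemma permSystem_simple (n : ℕ) (i : Fin n) :
    (permSystem n).simple i = Equiv.swap i.castSucc i.succ :=
  toPerm_simple n i

end Cfsg.Agent.Lib.Helper21.CoxA
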