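import Mathlib
import Cfsg.Agent.S3335

set_option autoImplicit false

namespace Cfsg.Agent.Lib.Helper21.AltPres

open Cfsg.Agent.S3335

lemma Sat.map {X Y : Type*} [Group X] [Group Y] {k : ℕ} {f : Fin k → X} (h : Sat k f)
    (g : X →* Y) : Sat k (fun i => g (f i)) where
  h3 i hi := by rw [← map_pow, h.h3 i hi, map_one]
  h2 i hi := by rw [← map_pow, h.h2 i hi, map_one]
  hb i j hij := by rw [← map_mul, ← map_pow, h.hb i j hij, map_one]
  hc i j hij := by rw [← map_mul, ← map_pow, h.hc i j hij, map_one]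

/-- Recognition of the alternating group from Carmichael's relations. -/
theorem alt_iso_of_sat {X : Type*} [Group X] [Finite X] (k : ℕ) (hk : 3 ≤ k) (f : Fin k → X)
    (hf : Sat k f) (hne : ∃ i, f i ≠ 1)
    (hcard : Nat.card X = Nat.card (alternatingGroup (Fin (k + 2)))) :
    Nonempty (X ≃* alternatingGroup (Fin (k + 2))) := by
  obtain ⟨e⟩ := main k
  obtain ⟨φ, hφ⟩ : ∃ φ : alternatingGroup (Fin (k + 2)) →* X,
      φ = (PresentedGroup.toGroup hf.lift).comp e.symm.toMonoidHom := ⟨_, rfl⟩
  haveI : IsSimpleGroup (alternatingGroup (Fin (k + 2))) :=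
    alternatingGroup.isSimpleGroup (by simp; omega)
  have hinj : Function.Injective φ := by
    rw [← MonoidHom.ker_eq_bot_iff]
    rcases Subgroup.Normal.eq_bot_or_eq_top (H := φ.ker) inferInstance with h | h
    · exact h
    · exfalso
      obtain ⟨i, hi⟩ := hne
      apply hi
      have h1 : e (PresentedGroup.of i) ∈ φ.ker := by rw [h]; trivial
      rw [MonoidHom.mem_ker, hφ] at h1
      simpa using h1
  have hbij : Function.Bijective φ :=
    (Nat.bijective_iff_injective_and_card φ).mpr ⟨hinj, hcard.symm⟩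
  exact ⟨(MulEquiv.ofBijective φ hbij).symm⟩

end Cfsg.Agent.Lib.Helper21.AltPres
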