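import Mathlib

set_option autoImplicit false

namespace Cfsg.Agent.Lib.Helper21

variable {G : Type*} [Group G]

/-- multiplicativity of `a ↦ [x,a]` on an abelian normal subgroup -/
lemma commMap_mul (A : Subgroup G) [A.Normal] (hA : ∀ a ∈ A, ∀ b ∈ A, a * b = b * a) (x : G)
    (a : G) (ha : a ∈ A) (b : G) (hb : b ∈ A) :
    x * (a * b) * x⁻¹ * (a * b)⁻¹ = (x * a * x⁻¹ * a⁻¹) * (x * b * x⁻¹ * b⁻¹) := by
  have h1 : x * b * x⁻¹ ∈ A := Subgroup.Normal.conj_mem inferInstance b hb x
  have h2 : (x * b * x⁻¹ * b⁻¹) * a⁻¹ = a⁻¹ * (x * b * x⁻¹ * b⁻¹) :=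
    hA _ (A.mul_mem h1 (A.inv_mem hb)) _ (A.inv_mem ha)
  calc x * (a * b) * x⁻¹ * (a * b)⁻¹ = x * a * x⁻¹ * ((x * b * x⁻¹ * b⁻¹) * a⁻¹) := by group
    _ = x * a * x⁻¹ * (a⁻¹ * (x * b * x⁻¹ * b⁻¹)) := by rw [h2]
    _ = _ := by group

/-- the homomorphism `a ↦ [x,a]` of an abelian normal subgroup -/
def commMap (A : Subgroup G) [A.Normal] (hA : ∀ a ∈ A, ∀ b ∈ A, a * b = b * a) (x : G) : A →* A where
  toFun a := ⟨x * a * x⁻¹ * (a : G)⁻¹,
    A.mul_mem (Subgroup.Normal.conj_mem inferInstance (a : G) a.2 x) (A.inv_mem a.2)⟩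
  map_one' := by ext; simp
  map_mul' a b := by
    ext
    exact commMap_mul A hA x a a.2 b b.2

lemma commMap_range_map (A : Subgroup G) [A.Normal] (hA : ∀ a ∈ A, ∀ b ∈ A, a * b = b * a) (x : G)
    (hgen : A ⊔ Subgroup.zpowers x = ⊤) :
    (commMap A hA x).range.map A.subtype = commutator G := by
  set B : Subgroup G := (commMap A hA x).range.map A.subtype with hB
  have hmemB : ∀ a ∈ A, x * a * x⁻¹ * a⁻¹ ∈ B := by
    intro a ha
    exact ⟨commMap A hA x ⟨a, ha⟩, ⟨⟨a, ha⟩, rfl⟩, rfl⟩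
  have hBA : B ≤ A := Subgroup.map_subtype_le _
  have hBelim : ∀ c ∈ B, ∃ a ∈ A, x * a * x⁻¹ * a⁻¹ = c := by
    rintro _ ⟨_, ⟨a, rfl⟩, rfl⟩
    exact ⟨a, a.2, rfl⟩
  have hBn : B.Normal := by
    rw [← Subgroup.normalizer_eq_top_iff, eq_top_iff, ← hgen, sup_le_iff]
    constructor
    · intro a ha
      rw [Subgroup.mem_normalizer_iff]
      intro c
      constructor
      · intro hc
        have : a * c * a⁻¹ = c := by
          rw [hA a ha c (hBA hc)]; group
        rw [this]; exact hc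
      · intro hc
        have hcA : c ∈ A := by
          have := Subgroup.Normal.conj_mem' (inferInstance : A.Normal) _ (hBA hc) a
          simpa [mul_assoc] using this
        have : a * c * a⁻¹ = c := by
          rw [hA a ha c hcA]; group
        rwa [this] at hc
    · rw [Subgroup.zpowers_le]
      rw [Subgroup.mem_normalizer_iff]
      intro c
      constructor
      · intro hc
        obtain ⟨a, ha, rfl⟩ := hBelim c hc
        have := hmemB (x * a * x⁻¹) (Subgroup.Normal.conj_mem inferInstance a ha x)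
        convert this using 1
        group
      · intro hc
        obtain ⟨a, ha, hac⟩ := hBelim _ hc
        have := hmemB (x⁻¹ * a * x) (Subgroup.Normal.conj_mem' inferInstance a ha x)
        convert this using 1
        have : c = x⁻¹ * (x * c * x⁻¹) * x := by group
        rw [this, ← hac]
        group
  apply le_antisymm
  · intro c hc
    obtain ⟨a, ha, rfl⟩ := hBelim c hc
    rw [commutator_def]
    exact Subgroup.commutator_mem_commutator (Subgroup.mem_top x) (Subgroup.mem_top a)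
  · have hcx : ∀ a ∈ A, Commute (QuotientGroup.mk' B x) (QuotientGroup.mk' B a) := by
      intro a ha
      have h1 : (QuotientGroup.mk' B) (x * a * x⁻¹ * a⁻¹) = 1 := by
        rw [← MonoidHom.mem_ker, QuotientGroup.ker_mk']; exact hmemB a ha
      rw [map_mul, map_mul, map_mul, map_inv, map_inv] at h1
      rw [Commute, SemiconjBy]
      calc _ = ((QuotientGroup.mk' B) x * (QuotientGroup.mk' B) a * ((QuotientGroup.mk' B) x)⁻¹ *
              ((QuotientGroup.mk' B) a)⁻¹) * ((QuotientGroup.mk' B) a * (QuotientGroup.mk' B) x) := by group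
        _ = _ := by rw [h1, one_mul]
    have hcA : ∀ a ∈ A, ∀ b ∈ A, Commute (QuotientGroup.mk' B a) (QuotientGroup.mk' B b) := by
      intro a ha b hb
      rw [Commute, SemiconjBy, ← map_mul, ← map_mul, hA a ha b hb]
    rw [commutator_def, Subgroup.commutator_le]
    intro g _ h _
    have hg : g ∈ A ⊔ Subgroup.zpowers x := hgen ▸ Subgroup.mem_top g
    have hh : h ∈ A ⊔ Subgroup.zpowers x := hgen ▸ Subgroup.mem_top h
    rw [Subgroup.mem_sup_of_normal_left] at hg hh
    obtain ⟨a, ha, _, ⟨k, rfl⟩, rfl⟩ := hg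
    obtain ⟨b, hb, _, ⟨l, rfl⟩, rfl⟩ := hh
    rw [← QuotientGroup.ker_mk' B, MonoidHom.mem_ker, commutatorElement_def]
    have hcomm : Commute (QuotientGroup.mk' B (a * x ^ k)) (QuotientGroup.mk' B (b * x ^ l)) := by
      rw [map_mul, map_mul, map_zpow, map_zpow]
      apply Commute.mul_left
      · apply Commute.mul_right (hcA a ha b hb)
        exact ((hcx a ha).symm).zpow_right l
      · apply Commute.mul_right
        · exact (hcx b hb).zpow_left k
        · exact ((Commute.refl _).zpow_left k).zpow_right l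
    simp only [] at hcomm ⊢
    rw [map_mul, map_mul, map_mul, map_inv, map_inv, hcomm.eq]
    group

lemma commMap_ker_map (A : Subgroup G) [A.Normal] (hA : ∀ a ∈ A, ∀ b ∈ A, a * b = b * a) (x : G) :
    (commMap A hA x).ker.map A.subtype = A ⊓ Subgroup.centralizer ({x} : Set G) := by
  ext c
  constructor
  · rintro ⟨a, ha, rfl⟩
    refine Subgroup.mem_inf.2 ⟨a.2, ?_⟩
    rw [Subgroup.mem_centralizer_singleton_iff]
    have h1 : x * (a : G) * x⁻¹ * (a : G)⁻¹ = 1 := congrArg Subtype.val (MonoidHom.mem_ker.1 ha)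
    simp only [Subgroup.subtype_apply]
    calc (a : G) * x = (x * (a : G) * x⁻¹ * (a : G)⁻¹)⁻¹ * (x * a) := by group
      _ = x * a := by rw [h1]; simp
  · intro hc
    obtain ⟨hcA, hcx⟩ := Subgroup.mem_inf.1 hc
    rw [Subgroup.mem_centralizer_singleton_iff] at hcx
    refine ⟨⟨c, hcA⟩, ?_, rfl⟩
    rw [SetLike.mem_coe, MonoidHom.mem_ker]
    ext
    change x * c * x⁻¹ * c⁻¹ = 1
    rw [← hcx]; group

/-- `|G'| * |C_A(x)| = |A|` when `G = A⟨x⟩`, `A` abelian normal. -/
lemma card_commutator_mul_card_centralizer (A : Subgroup G) [A.Normal]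
    (hA : ∀ a ∈ A, ∀ b ∈ A, a * b = b * a) (x : G) (hgen : A ⊔ Subgroup.zpowers x = ⊤) :
    Nat.card (commutator G) * Nat.card ↥(A ⊓ Subgroup.centralizer ({x} : Set G)) = Nat.card A := by
  rw [← commMap_range_map A hA x hgen, ← commMap_ker_map A hA x,
    Subgroup.card_map_of_injective A.subtype_injective, Subgroup.card_map_of_injective A.subtype_injective,
    ← Subgroup.index_ker, mul_comm]
  exact Subgroup.card_mul_index _

end Cfsg.Agent.Lib.Helper21
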