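import Mathlib

set_option autoImplicit false

namespace Cfsg.Agent.Lib.Helper21

/-- solutions of `i + i = 0` in `ZMod m` -/
lemma zmod_add_self_eq_zero {m : ℕ} [NeZero m] (i : ZMod m) (h : i + i = 0) :
    i = 0 ∨ i = ((m / 2 : ℕ) : ZMod m) := by
  have h1 : ((i.val + i.val : ℕ) : ZMod m) = 0 := by
    rw [Nat.cast_add, ZMod.natCast_zmod_val]; exact h
  rw [ZMod.natCast_eq_zero_iff] at h1
  have h2 : i.val < m := ZMod.val_lt i
  obtain ⟨k, hk⟩ := h1
  have hk2 : k = 0 ∨ k = 1 := by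
    have : m * k < m * 2 := by omega
    have := Nat.lt_of_mul_lt_mul_left this
    omega
  rcases hk2 with rfl | rfl
  · left
    have : i.val = 0 := by omega
    exact (ZMod.val_eq_zero i).1 this
  · right
    have : i.val = m / 2 := by omega
    rw [← this, ZMod.natCast_zmod_val]

section Dihedral
open DihedralGroup
variable (n : ℕ)

/-- the rotation subgroup -/
def rot : Subgroup (DihedralGroup n) := Subgroup.zpowers (r 1)

lemma mem_rot (g : DihedralGroup n) : g ∈ rot n ↔ ∃ i, g = r i := by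
  constructor
  · rintro ⟨k, rfl⟩
    exact ⟨k, r_one_zpow k⟩
  · rintro ⟨i, rfl⟩
    obtain ⟨k, rfl⟩ := ZMod.intCast_surjective i
    exact ⟨k, r_one_zpow k⟩

lemma rot_isCyclic : IsCyclic (rot n) := by
  unfold rot; infer_instance

lemma rot_normal : (rot n).Normal := by
  constructor
  intro g hg h
  obtain ⟨i, rfl⟩ := (mem_rot n g).1 hg
  rw [mem_rot]
  cases h with
  | r j => exact ⟨j + i + -j, by simp⟩
  | sr j => exact ⟨j - (j + i), by simp⟩

lemma rot_sup : rot n ⊔ Subgroup.zpowers (sr 0 : DihedralGroup n) = ⊤ := by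
  rw [eq_top_iff]
  intro g _
  cases g with
  | r j => exact (le_sup_left : rot n ≤ _) ((mem_rot n _).2 ⟨j, rfl⟩)
  | sr j =>
    have : (sr j : DihedralGroup n) = r (-j) * sr 0 := by simp
    rw [this]
    exact Subgroup.mul_mem_sup ((mem_rot n _).2 ⟨-j, rfl⟩) (Subgroup.mem_zpowers _)

lemma mem_rot_inf_centralizer (g : DihedralGroup n) :
    g ∈ rot n ⊓ Subgroup.centralizer ({sr 0} : Set (DihedralGroup n)) ↔ ∃ i, g = r i ∧ i + i = 0 := by
  rw [Subgroup.mem_inf, mem_rot, Subgroup.mem_centralizer_singleton_iff]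
  constructor
  · rintro ⟨⟨i, rfl⟩, h⟩
    refine ⟨i, rfl, ?_⟩
    simp only [r_mul_sr, sr_mul_r, zero_sub, zero_add, sr.injEq] at h
    calc i + i = -i + i := by rw [h]
      _ = 0 := neg_add_cancel i
  · rintro ⟨i, rfl, h⟩
    refine ⟨⟨i, rfl⟩, ?_⟩
    simp only [r_mul_sr, sr_mul_r, zero_sub, zero_add, sr.injEq]
    exact (eq_neg_of_add_eq_zero_left h).symm

lemma card_rot_inf_centralizer_le [NeZero n] :
    Nat.card (rot n ⊓ Subgroup.centralizer ({sr 0} : Set (DihedralGroup n)) : Subgroup _) ≤ 2 := by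
  classical
  have hsub : ((rot n ⊓ Subgroup.centralizer ({sr 0} : Set (DihedralGroup n)) : Subgroup _) : Set (DihedralGroup n)) ⊆
      (({r 0, r ((n / 2 : ℕ) : ZMod n)} : Finset (DihedralGroup n)) : Set _) := by
    intro g hg
    obtain ⟨i, rfl, hi⟩ := (mem_rot_inf_centralizer n g).1 hg
    rcases zmod_add_self_eq_zero i hi with h | h
    · simp [h]
    · rw [h]; simp
  calc Nat.card (rot n ⊓ Subgroup.centralizer ({sr 0} : Set (DihedralGroup n)) : Subgroup _)
      = Set.ncard ((rot n ⊓ Subgroup.centralizer ({sr 0} : Set (DihedralGroup n)) : Subgroup _) : Set (DihedralGroup n)) := by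
        rw [← Nat.card_coe_set_eq]; rfl
    _ ≤ Set.ncard (({r 0, r ((n / 2 : ℕ) : ZMod n)} : Finset (DihedralGroup n)) : Set _) :=
        Set.ncard_le_ncard hsub (Finset.finite_toSet _)
    _ = ({r 0, r ((n / 2 : ℕ) : ZMod n)} : Finset (DihedralGroup n)).card := Set.ncard_coe_finset _
    _ ≤ 2 := Finset.card_le_two

lemma rot_inf_centralizer_of_odd (hn : Odd n) :
    rot n ⊓ Subgroup.centralizer ({sr 0} : Set (DihedralGroup n)) = ⊥ := by
  rw [eq_bot_iff]
  intro g hg
  obtain ⟨i, rfl, hi⟩ := (mem_rot_inf_centralizer n g).1 hg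
  rw [Subgroup.mem_bot, one_def]
  congr 1
  have : NeZero n := ⟨by rintro rfl; simp at hn⟩
  rcases zmod_add_self_eq_zero i hi with h | h
  · exact h
  · obtain ⟨k, hk⟩ := hn
    have hi' := hi
    rw [h] at hi'
    have h1 : ((n / 2 + n / 2 : ℕ) : ZMod n) = 0 := by rw [Nat.cast_add]; exact hi'
    rw [ZMod.natCast_eq_zero_iff] at h1
    have h2 : n / 2 = k := by omega
    rw [h2] at h1
    by_cases hk0 : k = 0
    · rw [h, h2, hk0]; simp
    · have := Nat.le_of_dvd (by omega) h1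
      omega

end Dihedral

section Quaternion
open QuaternionGroup
variable (n : ℕ)

/-- the cyclic subgroup generated by `a 1` -/
def qrot : Subgroup (QuaternionGroup n) := Subgroup.zpowers (a 1)

lemma a_one_zpow' (k : ℤ) : (a 1 : QuaternionGroup n) ^ k = a k := by
  obtain ⟨m, rfl | rfl⟩ := k.eq_nat_or_neg
  · simp [a_one_pow]
  · rw [zpow_neg, zpow_natCast, a_one_pow, inv_eq_iff_mul_eq_one]
    simp

lemma mem_qrot (g : QuaternionGroup n) : g ∈ qrot n ↔ ∃ i, g = a i := by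
  constructor
  · rintro ⟨k, rfl⟩
    exact ⟨k, a_one_zpow' n k⟩
  · rintro ⟨i, rfl⟩
    obtain ⟨k, rfl⟩ := ZMod.intCast_surjective i
    exact ⟨k, a_one_zpow' n k⟩

lemma qrot_isCyclic : IsCyclic (qrot n) := by
  unfold qrot; infer_instance

lemma inv_a' (i : ZMod (2 * n)) : (a i : QuaternionGroup n)⁻¹ = a (-i) := by
  rw [inv_eq_iff_mul_eq_one]; simp

lemma inv_xa' (i : ZMod (2 * n)) : (xa i : QuaternionGroup n)⁻¹ = xa ((n : ZMod (2 * n)) + i) := by
  rw [inv_eq_iff_mul_eq_one]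
  simp only [xa_mul_xa, one_def, a.injEq]
  have : (n : ZMod (2 * n)) + n = 0 := by
    rw [← Nat.cast_add, ← two_mul]; exact ZMod.natCast_self _
  calc (n : ZMod (2 * n)) + (n + i) - i = (n : ZMod (2 * n)) + n := by ring
    _ = 0 := this

lemma qrot_normal : (qrot n).Normal := by
  constructor
  intro g hg h
  obtain ⟨i, rfl⟩ := (mem_qrot n g).1 hg
  rw [mem_qrot]
  cases h with
  | a j => exact ⟨j + i + -j, by simp [inv_a']⟩
  | xa j => exact ⟨_, by rw [inv_xa', xa_mul_a, xa_mul_xa]⟩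

lemma qrot_sup : qrot n ⊔ Subgroup.zpowers (xa 0 : QuaternionGroup n) = ⊤ := by
  rw [eq_top_iff]
  intro g _
  cases g with
  | a j => exact (le_sup_left : qrot n ≤ _) ((mem_qrot n _).2 ⟨j, rfl⟩)
  | xa j =>
    have : (xa j : QuaternionGroup n) = a (-j) * xa 0 := by simp
    rw [this]
    exact Subgroup.mul_mem_sup ((mem_qrot n _).2 ⟨-j, rfl⟩) (Subgroup.mem_zpowers _)

lemma mem_qrot_inf_centralizer (g : QuaternionGroup n) :
    g ∈ qrot n ⊓ Subgroup.centralizer ({xa 0} : Set (QuaternionGroup n)) ↔ ∃ i, g = a i ∧ i + i = 0 := by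
  rw [Subgroup.mem_inf, mem_qrot, Subgroup.mem_centralizer_singleton_iff]
  constructor
  · rintro ⟨⟨i, rfl⟩, h⟩
    refine ⟨i, rfl, ?_⟩
    simp only [a_mul_xa, xa_mul_a, zero_sub, zero_add, xa.injEq] at h
    calc i + i = -i + i := by rw [h]
      _ = 0 := neg_add_cancel i
  · rintro ⟨i, rfl, h⟩
    refine ⟨⟨i, rfl⟩, ?_⟩
    simp only [a_mul_xa, xa_mul_a, zero_sub, zero_add, xa.injEq]
    exact (eq_neg_of_add_eq_zero_left h).symm

lemma card_qrot_inf_centralizer_le [NeZero n] :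
    Nat.card (qrot n ⊓ Subgroup.centralizer ({xa 0} : Set (QuaternionGroup n)) : Subgroup _) ≤ 2 := by
  classical
  have hsub : ((qrot n ⊓ Subgroup.centralizer ({xa 0} : Set (QuaternionGroup n)) : Subgroup _) : Set (QuaternionGroup n)) ⊆
      (({a 0, a ((2 * n / 2 : ℕ) : ZMod (2 * n))} : Finset (QuaternionGroup n)) : Set _) := by
    intro g hg
    obtain ⟨i, rfl, hi⟩ := (mem_qrot_inf_centralizer n g).1 hg
    rcases zmod_add_self_eq_zero i hi with h | h
    · simp [h]
    · rw [h]; simp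
  calc Nat.card (qrot n ⊓ Subgroup.centralizer ({xa 0} : Set (QuaternionGroup n)) : Subgroup _)
      = Set.ncard ((qrot n ⊓ Subgroup.centralizer ({xa 0} : Set (QuaternionGroup n)) : Subgroup _) : Set (QuaternionGroup n)) := by
        rw [← Nat.card_coe_set_eq]; rfl
    _ ≤ Set.ncard (({a 0, a ((2 * n / 2 : ℕ) : ZMod (2 * n))} : Finset (QuaternionGroup n)) : Set _) :=
        Set.ncard_le_ncard hsub (Finset.finite_toSet _)
    _ = ({a 0, a ((2 * n / 2 : ℕ) : ZMod (2 * n))} : Finset (QuaternionGroup n)).card := Set.ncard_coe_finset _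
    _ ≤ 2 := Finset.card_le_two

end Quaternion

end Cfsg.Agent.Lib.Helper21
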