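import Mathlib

set_option autoImplicit false

namespace Cfsg.Agent.Lib.Helper21

open Subgroup

universe u

/-- number of solutions of `x ^ n = c` -/
noncomputable def rootCount (G : Type*) [Group G] (n : ℕ) (c : G) : ℕ :=
  Nat.card {x : G // x ^ n = c}

lemma fc_card_conj_mul_card_centralizer {G : Type*} [Group G] [Finite G] (x : G) :
    Nat.card {u : G // IsConj x u} * Nat.card (centralizer ({x} : Set G)) = Nat.card G := by
  classical
  haveI := Fintype.ofFinite G
  rw [nat_card_centralizer_nat_card_stabilizer]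
  have h := MulAction.card_orbit_mul_card_stabilizer_eq_card_group (ConjAct G) x
  have e : Nat.card {u : G // IsConj x u} = Fintype.card (MulAction.orbit (ConjAct G) x) := by
    rw [← Nat.card_eq_fintype_card]
    apply Nat.card_congr
    apply Equiv.subtypeEquivRight
    intro u
    rw [ConjAct.mem_orbit_conjAct, isConj_comm]
  rw [e, Nat.card_eq_fintype_card, h, Nat.card_eq_fintype_card]
  rfl

lemma rootCount_conj {G : Type*} [Group G] (n : ℕ) (c g : G) :
    rootCount G n (g * c * g⁻¹) = rootCount G n c := by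
  unfold rootCount
  apply Nat.card_congr
  exact
    { toFun := fun x => ⟨g⁻¹ * x.1 * g, by
        have h : (g⁻¹ * x.1 * g) ^ n = g⁻¹ * x.1 ^ n * g := by
          have := conj_pow (a := g⁻¹) (i := n) (b := x.1)
          simpa using this
        rw [h, x.2]
        group⟩
      invFun := fun x => ⟨g * x.1 * g⁻¹, by rw [conj_pow, x.2]⟩
      left_inv := fun x => Subtype.ext (by simp [mul_assoc])
      right_inv := fun x => Subtype.ext (by simp [mul_assoc]) }

lemma card_isConj_pow {G : Type*} [Group G] [Finite G] (n : ℕ) (c : G) :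
    Nat.card {x : G // IsConj c (x ^ n)} = Nat.card {y : G // IsConj c y} * rootCount G n c := by
  classical
  haveI := Fintype.ofFinite {y : G // IsConj c y}
  let f : {x : G // IsConj c (x ^ n)} → {y : G // IsConj c y} := fun x => ⟨x.1 ^ n, x.2⟩
  rw [Nat.card_congr (Equiv.sigmaFiberEquiv f).symm, Nat.card_sigma]
  have h : ∀ y : {y : G // IsConj c y}, Nat.card {x // f x = y} = rootCount G n c := by
    intro y
    obtain ⟨g, hg⟩ := isConj_iff.mp y.2
    rw [← rootCount_conj n c g, hg]
    unfold rootCount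
    apply Nat.card_congr
    exact
      { toFun := fun x => ⟨x.1.1, congrArg Subtype.val x.2⟩
        invFun := fun x => ⟨⟨x.1, by rw [x.2]; exact y.2⟩, Subtype.ext x.2⟩
        left_inv := fun x => rfl
        right_inv := fun x => rfl }
  simp only [h]
  rw [Finset.sum_const, Finset.card_univ, smul_eq_mul, Nat.card_eq_fintype_card]

lemma self_mem_centralizer_singleton {G : Type*} [Group G] (c : G) :
    c ∈ centralizer ({c} : Set G) := by
  rw [mem_centralizer_iff]
  intro h hh
  rw [Set.mem_singleton_iff.mp hh]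

lemma self_mem_center_centralizer {G : Type*} [Group G] (c : G) :
    (⟨c, self_mem_centralizer_singleton c⟩ : centralizer ({c} : Set G)) ∈
      center (centralizer ({c} : Set G)) := by
  rw [mem_center_iff]
  intro y
  apply Subtype.ext
  have := mem_centralizer_iff.mp y.2 c (Set.mem_singleton c)
  exact this.symm

lemma rootCount_centralizer {G : Type*} [Group G] (n : ℕ) (c : G) :
    rootCount G n c =
      rootCount (centralizer ({c} : Set G)) n ⟨c, self_mem_centralizer_singleton c⟩ := by
  unfold rootCount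
  apply Nat.card_congr
  exact
    { toFun := fun x => ⟨⟨x.1, by
        rw [mem_centralizer_iff]
        intro h hh
        rw [Set.mem_singleton_iff.mp hh]
        have h1 : Commute (x.1 ^ n) x.1 := Commute.pow_self x.1 n
        rw [x.2] at h1
        exact h1⟩, Subtype.ext x.2⟩
      invFun := fun x => ⟨x.1.1, congrArg Subtype.val x.2⟩
      left_inv := fun x => rfl
      right_inv := fun x => rfl }

lemma dvd_card_pow_mem {G : Type*} [Group G] [Finite G] (q d : ℕ) (W : G → Prop)
    (hW : ∀ g x, W x → W (g * x * g⁻¹))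
    (h : ∀ c, W c → d ∣ Nat.card {x : G // IsConj c (x ^ q)}) :
    d ∣ Nat.card {x : G // W (x ^ q)} := by
  classical
  haveI := Fintype.ofFinite (ConjClasses G)
  let f : {x : G // W (x ^ q)} → ConjClasses G := fun x => ConjClasses.mk (x.1 ^ q)
  rw [Nat.card_congr (Equiv.sigmaFiberEquiv f).symm, Nat.card_sigma]
  apply Finset.dvd_sum
  intro C _
  obtain ⟨c, rfl⟩ := ConjClasses.exists_rep C
  by_cases hc : W c
  · have h1 : Nat.card {x // f x = ConjClasses.mk c} = Nat.card {x : G // IsConj c (x ^ q)} := by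
      apply Nat.card_congr
      exact
        { toFun := fun x => ⟨x.1.1, (ConjClasses.mk_eq_mk_iff_isConj.mp x.2).symm⟩
          invFun := fun x => ⟨⟨x.1, by
            obtain ⟨g, hg⟩ := isConj_iff.mp x.2
            rw [← hg]
            exact hW g c hc⟩, ConjClasses.mk_eq_mk_iff_isConj.mpr x.2.symm⟩
          left_inv := fun x => rfl
          right_inv := fun x => rfl }
    rw [h1]
    exact h c hc
  · have h1 : IsEmpty {x // f x = ConjClasses.mk c} := ⟨fun x => hc (by
      have h2 : IsConj (x.1.1 ^ q) c := ConjClasses.mk_eq_mk_iff_isConj.mp x.2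
      obtain ⟨g, hg⟩ := isConj_iff.mp h2
      rw [← hg]
      exact hW g _ x.1.2)⟩
    rw [Nat.card_of_isEmpty]
    exact dvd_zero d

lemma orderOf_of_pow_eq {G : Type*} [Group G] [Finite G] (p s : ℕ) [Fact p.Prime] (x z : G)
    (hx : x ^ p ^ s = z) (hz : p ∣ orderOf z) : orderOf x = p ^ s * orderOf z := by
  have hp : p.Prime := Fact.out
  have h1 := orderOf_pow' x (pow_ne_zero s hp.ne_zero)
  rw [hx] at h1
  obtain ⟨j, hj, hg⟩ := (Nat.dvd_prime_pow hp).mp (Nat.gcd_dvd_right (orderOf x) (p ^ s))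
  have h2 : p ^ j ∣ orderOf x := hg ▸ Nat.gcd_dvd_left (orderOf x) (p ^ s)
  rw [hg] at h1
  have h3 : orderOf x = p ^ j * orderOf z := by
    rw [h1, Nat.mul_div_cancel' h2]
  rcases Nat.lt_or_ge j s with hjs | hjs
  · exfalso
    have h4 : p ^ (j + 1) ∣ orderOf x := by
      rw [h3, pow_succ]
      exact Nat.mul_dvd_mul_left _ hz
    have h5 : p ^ (j + 1) ∣ p ^ s := pow_dvd_pow p hjs
    have h6 : p ^ (j + 1) ∣ p ^ j := hg ▸ Nat.dvd_gcd h4 h5
    have h7 := (Nat.pow_dvd_pow_iff_le_right hp.one_lt).mp h6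
    omega
  · have : j = s := le_antisymm hj hjs
    rw [h3, this]

lemma pow_dvd_rootCount_of_dvd_orderOf {G : Type*} [Group G] [Finite G] (p s : ℕ) [Fact p.Prime]
    (z : G) (hz : p ∣ orderOf z) : p ^ s ∣ rootCount G (p ^ s) z := by
  classical
  have hp : p.Prime := Fact.out
  haveI := Fintype.ofFinite (Subgroup G)
  unfold rootCount
  let f : {x : G // x ^ p ^ s = z} → Subgroup G := fun x => zpowers x.1
  rw [Nat.card_congr (Equiv.sigmaFiberEquiv f).symm, Nat.card_sigma]
  apply Finset.dvd_sum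
  intro C _
  by_cases hC : IsEmpty {x // f x = C}
  · rw [Nat.card_of_isEmpty]
    exact dvd_zero _
  rw [not_isEmpty_iff] at hC
  obtain ⟨⟨⟨x0, hx0⟩, hx0C⟩⟩ := hC
  have hx0C' : zpowers x0 = C := hx0C
  set m := orderOf z with hm
  have hm2 : 2 ≤ m := le_trans hp.two_le (Nat.le_of_dvd (orderOf_pos z) hz)
  have ho : orderOf x0 = p ^ s * m := orderOf_of_pow_eq p s x0 z hx0 hz
  have hps : 0 < p ^ s := pow_pos hp.pos s
  -- the map
  have hmem : ∀ t : ℕ, (x0 ^ (1 + m * t)) ^ p ^ s = z := by
    intro t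
    rw [← pow_mul, mul_comm, pow_mul, hx0, pow_add, pow_one, pow_mul, hm, pow_orderOf_eq_one,
      one_pow, mul_one]
  have hzp : ∀ t : ℕ, zpowers (x0 ^ (1 + m * t)) = C := by
    intro t
    rw [← hx0C']
    apply Subgroup.eq_of_le_of_card_ge
    · rw [zpowers_le]
      exact Subgroup.pow_mem _ (mem_zpowers x0) _
    · rw [Nat.card_zpowers, Nat.card_zpowers, orderOf_of_pow_eq p s _ z (hmem t) hz, ho]
  let φ : Fin (p ^ s) → {x // f x = C} := fun t => ⟨⟨x0 ^ (1 + m * t.1), hmem t.1⟩, hzp t.1⟩
  have hφ : Function.Bijective φ := by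
    constructor
    · intro t t' htt
      have h1 : x0 ^ (1 + m * t.1) = x0 ^ (1 + m * t'.1) :=
        congrArg (fun y => y.1.1) htt
      have hb : ∀ t : Fin (p ^ s), 1 + m * t.1 < orderOf x0 := by
        intro t
        rw [ho]
        have h2 : t.1 + 1 ≤ p ^ s := t.2
        calc 1 + m * t.1 < m + m * t.1 := by omega
          _ = (t.1 + 1) * m := by ring
          _ ≤ p ^ s * m := Nat.mul_le_mul_right m h2
      have h3 := pow_injOn_Iio_orderOf (hb t) (hb t') h1
      have h4 : m * t.1 = m * t'.1 := by omega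
      exact Fin.ext (Nat.eq_of_mul_eq_mul_left (by omega) h4)
    · rintro ⟨⟨y, hy⟩, hyC⟩
      have hyC' : zpowers y = C := hyC
      have hy0 : y ∈ zpowers x0 := by
        rw [hx0C', ← hyC']
        exact mem_zpowers y
      rw [← mem_powers_iff_mem_zpowers, mem_powers_iff_mem_range_orderOf] at hy0
      obtain ⟨k, hk, rfl⟩ := Finset.mem_image.mp hy0
      rw [Finset.mem_range, ho] at hk
      have h1 : x0 ^ (k * p ^ s) = x0 ^ (1 * p ^ s) := by
        rw [pow_mul, one_mul, hx0]
        exact hy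
      rw [pow_eq_pow_iff_modEq, ho, mul_comm (p ^ s) m] at h1
      have h2 : k ≡ 1 [MOD m] := Nat.ModEq.mul_right_cancel' hps.ne' h1
      have h3 : k % m = 1 := by
        have : k % m = 1 % m := h2
        rw [this, Nat.mod_eq_of_lt (by omega)]
      have h4 := Nat.div_add_mod k m
      rw [h3] at h4
      have h5 : k / m < p ^ s := by
        rw [Nat.div_lt_iff_lt_mul (by omega)]
        exact hk
      refine ⟨⟨k / m, h5⟩, ?_⟩
      apply Subtype.ext
      apply Subtype.ext
      show x0 ^ (1 + m * (k / m)) = x0 ^ k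
      congr 1
      omega
  rw [← Nat.card_congr (Equiv.ofBijective φ hφ), Nat.card_fin]

lemma rootCount_central_of_coprime {G : Type*} [Group G] [Finite G] (q : ℕ) (z : G)
    (hz : z ∈ center G) (hcop : Nat.Coprime q (orderOf z)) :
    rootCount G q z = rootCount G q 1 := by
  obtain ⟨m, hm⟩ := exists_pow_eq_self_of_coprime hcop
  have hw : (z ^ m) ^ q = z := by rw [← pow_mul, mul_comm, pow_mul, hm]
  have hwc : ∀ x : G, Commute x (z ^ m) := fun x =>
    ((mem_center_iff.mp (Subgroup.pow_mem _ hz m)) x)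
  unfold rootCount
  apply Nat.card_congr
  exact
    { toFun := fun x => ⟨x.1 * (z ^ m)⁻¹, by
        rw [((hwc x.1).inv_right).mul_pow, x.2, inv_pow, hw, mul_inv_cancel]⟩
      invFun := fun x => ⟨x.1 * z ^ m, by rw [(hwc x.1).mul_pow, x.2, hw, one_mul]⟩
      left_inv := fun x => Subtype.ext (by simp)
      right_inv := fun x => Subtype.ext (by simp) }

/-- central elements of order prime to `p` -/
def centerPrime (G : Type*) [Group G] (p : ℕ) [Fact p.Prime] : Subgroup G where
  carrier := {z | z ∈ center G ∧ ¬ p ∣ orderOf z}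
  one_mem' := ⟨Subgroup.one_mem _, by
    rw [orderOf_one]
    exact (Fact.out : p.Prime).one_lt.ne' ∘ Nat.dvd_one.mp⟩
  mul_mem' := by
    rintro a b ⟨ha, ha'⟩ ⟨hb, hb'⟩
    refine ⟨Subgroup.mul_mem _ ha hb, fun h => ?_⟩
    have hc : Commute a b := (mem_center_iff.mp hb a)
    have h1 := h.trans hc.orderOf_mul_dvd_mul_orderOf
    rcases ((Fact.out : p.Prime).dvd_mul).mp h1 with h2 | h2
    · exact ha' h2
    · exact hb' h2
  inv_mem' := by
    rintro a ⟨ha, ha'⟩
    exact ⟨Subgroup.inv_mem _ ha, by rwa [orderOf_inv]⟩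

lemma not_dvd_card_centerPrime (G : Type*) [Group G] [Finite G] (p : ℕ) [Fact p.Prime] :
    ¬ p ∣ Nat.card (centerPrime G p) := by
  intro h
  obtain ⟨z, hz⟩ := exists_prime_orderOf_dvd_card' p h
  apply z.2.2
  rw [Subgroup.orderOf_coe, hz]

lemma gcd_dvd_card_isConj_of {G : Type*} [Group G] [Finite G] (q : ℕ) (c : G)
    (h : Nat.gcd q (Nat.card (centralizer ({c} : Set G))) ∣
      rootCount (centralizer ({c} : Set G)) q ⟨c, self_mem_centralizer_singleton c⟩) :
    Nat.gcd q (Nat.card G) ∣ Nat.card {x : G // IsConj c (x ^ q)} := by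
  rw [card_isConj_pow, rootCount_centralizer, ← fc_card_conj_mul_card_centralizer c]
  refine (Nat.gcd_mul_right_dvd_mul_gcd _ _ _).trans ?_
  exact Nat.mul_dvd_mul (Nat.gcd_dvd_right _ _) h

theorem gcd_dvd_rootCount_pp (p : ℕ) [Fact p.Prime] (s : ℕ) :
    ∀ (N : ℕ) (G : Type u) [Group G] [Finite G], Nat.card G = N → ∀ z ∈ center G,
      Nat.gcd (p ^ s) (Nat.card G) ∣ rootCount G (p ^ s) z := by
  intro N
  induction N using Nat.strong_induction_on with
  | _ N ih =>
  intro G _ _ hN
  classical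
  have hp : p.Prime := Fact.out
  set d := Nat.gcd (p ^ s) (Nat.card G) with hd
  have hdp : d ∣ p ^ s := Nat.gcd_dvd_left _ _
  have hdG : d ∣ Nat.card G := Nat.gcd_dvd_right _ _
  -- the classes outside `centerPrime`
  have hA : ∀ c : G, c ∉ centerPrime G p → d ∣ Nat.card {x : G // IsConj c (x ^ p ^ s)} := by
    intro c hc
    by_cases hcc : c ∈ center G
    · have hpc : p ∣ orderOf c := by
        by_contra hpc
        exact hc ⟨hcc, hpc⟩
      rw [card_isConj_pow]
      exact Dvd.dvd.mul_left (hdp.trans (pow_dvd_rootCount_of_dvd_orderOf p s c hpc)) _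
    · apply gcd_dvd_card_isConj_of
      have hlt : Nat.card (centralizer ({c} : Set G)) < N := by
        rw [← hN]
        by_contra hge
        push Not at hge
        have htop := Subgroup.eq_top_of_le_card _ hge
        apply hcc
        rw [mem_center_iff]
        intro g
        have hg : g ∈ centralizer ({c} : Set G) := htop ▸ Subgroup.mem_top g
        exact (mem_centralizer_iff.mp hg c (Set.mem_singleton c)).symm
      exact ih _ hlt _ rfl _ (self_mem_center_centralizer c)
  have hW : d ∣ Nat.card {x : G // ¬ (x ^ p ^ s ∈ centerPrime G p)} := by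
    apply dvd_card_pow_mem (p ^ s) d (fun c => ¬ (c ∈ centerPrime G p))
    · intro g x hx hgx
      apply hx
      have h1 : g * x * g⁻¹ ∈ center G := hgx.1
      have h2 := mem_center_iff.mp h1 g⁻¹
      have h3 : x * g⁻¹ = g * x * g⁻¹ * g⁻¹ := by
        rw [← h2]
        group
      have h4 : x = g * x * g⁻¹ := mul_right_cancel h3
      rw [h4]
      exact hgx
    · exact hA
  have hX3 : Nat.card {x : G // x ^ p ^ s ∈ centerPrime G p} =
      Nat.card (centerPrime G p) * rootCount G (p ^ s) 1 := by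
    haveI := Fintype.ofFinite (centerPrime G p)
    let f : {x : G // x ^ p ^ s ∈ centerPrime G p} → centerPrime G p :=
      fun x => ⟨x.1 ^ p ^ s, x.2⟩
    rw [Nat.card_congr (Equiv.sigmaFiberEquiv f).symm, Nat.card_sigma]
    have h : ∀ w : centerPrime G p, Nat.card {x // f x = w} = rootCount G (p ^ s) 1 := by
      intro w
      rw [← rootCount_central_of_coprime (p ^ s) w.1 w.2.1
        (Nat.Coprime.pow_left s ((Nat.Prime.coprime_iff_not_dvd hp).mpr w.2.2))]
      unfold rootCount
      apply Nat.card_congr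
      exact
        { toFun := fun x => ⟨x.1.1, congrArg Subtype.val x.2⟩
          invFun := fun x => ⟨⟨x.1, by rw [x.2]; exact w.2⟩, Subtype.ext x.2⟩
          left_inv := fun _ => rfl
          right_inv := fun _ => rfl }
    simp only [h]
    rw [Finset.sum_const, Finset.card_univ, smul_eq_mul, Nat.card_eq_fintype_card]
  have hsum : Nat.card G = Nat.card {x : G // ¬ (x ^ p ^ s ∈ centerPrime G p)} +
      Nat.card {x : G // x ^ p ^ s ∈ centerPrime G p} := by
    rw [add_comm, ← Nat.card_sum]
    exact Nat.card_congr (Equiv.sumCompl (fun x : G => x ^ p ^ s ∈ centerPrime G p)).symm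
  have h1 : d ∣ Nat.card (centerPrime G p) * rootCount G (p ^ s) 1 := by
    rw [← hX3]
    rw [hsum] at hdG
    exact (Nat.dvd_add_right hW).mp hdG
  have hcop : Nat.Coprime d (Nat.card (centerPrime G p)) :=
    Nat.Coprime.coprime_dvd_left hdp
      (Nat.Coprime.pow_left s ((Nat.Prime.coprime_iff_not_dvd hp).mpr
        (not_dvd_card_centerPrime G p)))
  have hB1 : d ∣ rootCount G (p ^ s) 1 := hcop.dvd_of_dvd_mul_left h1
  intro z hz
  by_cases hpz : p ∣ orderOf z
  · exact hdp.trans (pow_dvd_rootCount_of_dvd_orderOf p s z hpz)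
  · rw [rootCount_central_of_coprime (p ^ s) z hz
      (Nat.Coprime.pow_left s ((Nat.Prime.coprime_iff_not_dvd hp).mpr hpz))]
    exact hB1

/-- for a prime power `q`, `gcd(q, |G|)` divides the number of `x` with `x ^ q` in a class -/
lemma gcd_dvd_card_isConj_pp {G : Type u} [Group G] [Finite G] (p : ℕ) [Fact p.Prime] (s : ℕ)
    (c : G) : Nat.gcd (p ^ s) (Nat.card G) ∣ Nat.card {x : G // IsConj c (x ^ p ^ s)} :=
  gcd_dvd_card_isConj_of _ c
    (gcd_dvd_rootCount_pp p s _ _ rfl _ (self_mem_center_centralizer c))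

/-- **Frobenius**: for central `z`, `gcd(n, |G|)` divides the number of solutions of
`x ^ n = z`. -/
theorem gcd_dvd_rootCount {G : Type u} [Group G] [Finite G] (n : ℕ) (z : G) (hz : z ∈ center G) :
    Nat.gcd n (Nat.card G) ∣ rootCount G n z := by
  rcases Nat.eq_zero_or_pos n with rfl | hn
  · rw [Nat.gcd_zero_left]
    unfold rootCount
    by_cases h1 : z = 1
    · subst h1
      have : Nat.card {x : G // x ^ 0 = 1} = Nat.card G :=
        Nat.card_congr (Equiv.subtypeUnivEquiv (fun x => pow_zero x))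
      rw [this]
    · have : IsEmpty {x : G // x ^ 0 = z} := ⟨fun x => h1 (by rw [← x.2, pow_zero])⟩
      rw [Nat.card_of_isEmpty (α := {x : G // x ^ 0 = z})]
      exact dvd_zero _
  rw [Nat.dvd_iff_prime_pow_dvd_dvd]
  intro p k hp hpk
  haveI := Fact.mk hp
  obtain ⟨s, m, hm, rfl⟩ := Nat.exists_eq_pow_mul_and_not_dvd hn.ne' p hp.ne_one
  have hk1 : p ^ k ∣ p ^ s * m := hpk.trans (Nat.gcd_dvd_left _ _)
  have hk2 : p ^ k ∣ Nat.card G := hpk.trans (Nat.gcd_dvd_right _ _)
  have hk3 : p ^ k ∣ p ^ s :=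
    (Nat.Coprime.pow_left k ((Nat.Prime.coprime_iff_not_dvd hp).mpr hm)).dvd_of_dvd_mul_right hk1
  have h1 : rootCount G (p ^ s * m) z = Nat.card {x : G // (x ^ p ^ s) ^ m = z} := by
    unfold rootCount
    apply Nat.card_congr
    apply Equiv.subtypeEquivRight
    intro x
    rw [pow_mul]
  rw [h1]
  apply dvd_card_pow_mem (p ^ s) (p ^ k) (fun w => w ^ m = z)
  · intro g x hx
    show (g * x * g⁻¹) ^ m = z
    rw [conj_pow, hx, mem_center_iff.mp hz g, mul_inv_cancel_right]
  · intro c _
    exact (Nat.dvd_gcd hk3 hk2).trans (gcd_dvd_card_isConj_pp p s c)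

/-- the general form (P. Hall / Frobenius) -/
theorem gcd_dvd_card_isConj_pow {G : Type u} [Group G] [Finite G] (c : G) (n : ℕ) :
    Nat.gcd (Nat.card {y : G // IsConj c y} * n) (Nat.card G) ∣
      Nat.card {x : G // IsConj c (x ^ n)} := by
  rw [card_isConj_pow, rootCount_centralizer]
  conv_lhs => rw [← fc_card_conj_mul_card_centralizer c]
  rw [Nat.gcd_mul_left]
  exact Nat.mul_dvd_mul_left _ (gcd_dvd_rootCount n _ (self_mem_center_centralizer c))

theorem frobenius_dvd {G : Type u} [Group G] [Finite G] (m : ℕ) (hm : m ∣ Nat.card G) :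
    m ∣ Nat.card {g : G // g ^ m = 1} := by
  have h := gcd_dvd_rootCount m (1 : G) (Subgroup.one_mem _)
  rwa [Nat.gcd_eq_left hm] at h

end Cfsg.Agent.Lib.Helper21
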