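import Mathlib
import Cfsg.Agent.Lib.Helper21.TwoFrob
import Cfsg.Agent.Lib.Helper15.Frob3
import Cfsg.Agent.Lib.Helper15.FpfInv
import Cfsg.Agent.S0042

set_option autoImplicit false

namespace Cfsg.Agent.Lib.Helper21

/-- All prime divisors of `n` satisfy `P`. -/
def GkPi (P : ℕ → Prop) (n : ℕ) : Prop := ∀ p : ℕ, p.Prime → p ∣ n → P p

lemma GkPi.mul {P : ℕ → Prop} {m n : ℕ} (hm : GkPi P m) (hn : GkPi P n) : GkPi P (m * n) := by
  intro p hp h
  rcases (Nat.Prime.dvd_mul hp).1 h with h | h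
  · exact hm p hp h
  · exact hn p hp h

lemma GkPi.of_dvd {P : ℕ → Prop} {m n : ℕ} (hn : GkPi P n) (h : m ∣ n) : GkPi P m :=
  fun p hp hpm => hn p hp (hpm.trans h)

lemma gk_pgroup {X : Type*} [Group X] [Finite X] (P : ℕ → Prop) {p : ℕ} (hp : p.Prime)
    (W : Subgroup X) (hW : IsPGroup p W) (h : P p) : GkPi P (Nat.card W) := by
  haveI : Fact p.Prime := ⟨hp⟩
  obtain ⟨n, hn⟩ := IsPGroup.iff_card.1 hW
  intro q hq hqd
  rw [hn] at hqd
  rw [(Nat.prime_dvd_prime_iff_eq hq hp).1 (hq.dvd_of_dvd_pow hqd)]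
  exact h

lemma gk_sup {X : Type*} [Group X] [Finite X] (P : ℕ → Prop) (S T : Subgroup X) [T.Normal]
    (hS : GkPi P (Nat.card S)) (hT : GkPi P (Nat.card T)) : GkPi P (Nat.card ↥(S ⊔ T)) := by
  have h1 := Subgroup.relIndex_mul_relIndex ⊥ T (S ⊔ T) bot_le le_sup_right
  rw [Subgroup.relIndex_bot_left, Subgroup.relIndex_bot_left, Subgroup.relIndex_sup_right] at h1
  rw [← h1]
  exact hT.mul (hS.of_dvd (Subgroup.relIndex_dvd_card T S))

lemma gk_exists_max {X : Type*} [Group X] [Finite X] (P : ℕ → Prop) :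
    ∃ N : Subgroup X, N.Normal ∧ GkPi P (Nat.card N) ∧
      ∀ W : Subgroup X, W.Normal → GkPi P (Nat.card W) → W ≤ N := by
  classical
  obtain ⟨N, hN, hmax⟩ :=
    (Set.toFinite {N : Subgroup X | N.Normal ∧ GkPi P (Nat.card N)}).exists_maximal
      ⟨⊥, inferInstance, by
        intro p hp h
        rw [Subgroup.card_bot] at h
        exact absurd (Nat.dvd_one.1 h) hp.one_lt.ne'⟩
  refine ⟨N, hN.1, hN.2, ?_⟩
  intro W hWn hW
  haveI := hN.1
  haveI := hWn
  have h1 : W ⊔ N ∈ {N : Subgroup X | N.Normal ∧ GkPi P (Nat.card N)} :=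
    ⟨inferInstance, gk_sup P W N hW hN.2⟩
  exact le_sup_left.trans (hmax h1 le_sup_right)

lemma gk_le_comap {X : Type*} [Group X] (N : Subgroup X) [N.Normal] (W : Subgroup (X ⧸ N)) :
    N ≤ W.comap (QuotientGroup.mk' N) := by
  intro x hx
  rw [Subgroup.mem_comap]
  have : QuotientGroup.mk' N x = 1 := (QuotientGroup.eq_one_iff x).2 hx
  rw [this]
  exact W.one_mem

lemma gk_relIndex_comap {X : Type*} [Group X] (N : Subgroup X) [N.Normal]
    (W : Subgroup (X ⧸ N)) : N.relIndex (W.comap (QuotientGroup.mk' N)) = Nat.card W := by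
  have := Subgroup.relIndex_ker (K := W.comap (QuotientGroup.mk' N)) (QuotientGroup.mk' N)
  rw [QuotientGroup.ker_mk',
    Subgroup.map_comap_eq_self_of_surjective (QuotientGroup.mk'_surjective N)] at this
  exact this

lemma gk_comap {X : Type*} [Group X] [Finite X] (P : ℕ → Prop) (N : Subgroup X) [N.Normal]
    (hN : GkPi P (Nat.card N)) (W : Subgroup (X ⧸ N)) (hW : GkPi P (Nat.card W)) :
    GkPi P (Nat.card ↥(W.comap (QuotientGroup.mk' N))) := by
  have h1 := Subgroup.relIndex_mul_relIndex ⊥ N (W.comap (QuotientGroup.mk' N)) bot_le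
    (gk_le_comap N W)
  rw [Subgroup.relIndex_bot_left, Subgroup.relIndex_bot_left, gk_relIndex_comap] at h1
  rw [← h1]
  exact hN.mul hW

lemma gk_quot_bot {X : Type*} [Group X] [Finite X] (P : ℕ → Prop) (N : Subgroup X) [N.Normal]
    (hN : GkPi P (Nat.card N))
    (hmax : ∀ W : Subgroup X, W.Normal → GkPi P (Nat.card W) → W ≤ N)
    (W : Subgroup (X ⧸ N)) [W.Normal] (hW : GkPi P (Nat.card W)) : W = ⊥ := by
  have h1 := hmax (W.comap (QuotientGroup.mk' N)) inferInstance (gk_comap P N hN W hW)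
  rw [eq_bot_iff]
  intro y hy
  obtain ⟨x, rfl⟩ := QuotientGroup.mk_surjective y
  exact Subgroup.mem_bot.2 ((QuotientGroup.eq_one_iff x).2 (h1 (Subgroup.mem_comap.2 hy)))

open scoped IsMulCommutative in
lemma gk_exists_normal_pgroup {X : Type*} [Group X] [Finite X] [Group.IsSolvable X]
    (K : Subgroup X) [K.Normal] (hK : K ≠ ⊥) :
    ∃ (p : ℕ) (V : Subgroup X), p.Prime ∧ V.Normal ∧ V ≤ K ∧ V ≠ ⊥ ∧ IsPGroup p V ∧
      ∀ x ∈ V, ∀ y ∈ V, x * y = y * x := by
  classical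
  obtain ⟨V, hV, hmin⟩ :=
    (Set.toFinite {V : Subgroup X | V.Normal ∧ V ≤ K ∧ V ≠ ⊥}).exists_minimal
      ⟨K, inferInstance, le_rfl, hK⟩
  obtain ⟨hVn, hVK, hVne⟩ := hV
  haveI := hVn
  have hlt : ⁅V, V⁆ < V := Group.IsSolvable.commutator_lt_of_ne_bot hVne
  have hbot : ⁅V, V⁆ = ⊥ := by
    by_contra hne
    have h1 : ⁅V, V⁆ ∈ {V : Subgroup X | V.Normal ∧ V ≤ K ∧ V ≠ ⊥} :=
      ⟨inferInstance, hlt.le.trans hVK, hne⟩
    exact absurd (hmin h1 hlt.le) hlt.not_ge
  have hcomm : ∀ x ∈ V, ∀ y ∈ V, x * y = y * x := by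
    intro x hx y hy
    have h1 := Subgroup.commutator_eq_bot_iff_le_centralizer.1 hbot hx
    exact (Subgroup.mem_centralizer_iff.1 h1 y hy).symm
  haveI : IsMulCommutative ↥V := ⟨⟨fun a b => Subtype.ext (hcomm a a.2 b b.2)⟩⟩
  have hnil : Group.IsNilpotent ↥V := inferInstance
  have hcard : Nat.card V ≠ 1 := fun h => hVne (Subgroup.card_eq_one.1 h)
  obtain ⟨p, hp, hpV⟩ := Nat.exists_prime_and_dvd hcard
  haveI : Fact p.Prime := ⟨hp⟩
  obtain ⟨W, hWn, hWV, hWne, _, hWp⟩ :=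
    Cfsg.Agent.Lib.Helper15.exists_normal_central_pSubgroup V hnil p hpV
  exact ⟨p, W, hp, hWn, hWV.trans hVK, hWne, hWp,
    fun x hx y hy => hcomm x (hWV hx) y (hWV hy)⟩

lemma gk_frob {X : Type*} [Group X] [Finite X] (P : ℕ → Prop) (N : Subgroup X) [N.Normal]
    (hN2 : N ≠ ⊤) (hN : GkPi P (Nat.card N)) (hI : GkPi (fun p => ¬ P p) N.index)
    (hmix : ∀ a b : ℕ, a.Prime → b.Prime → P a → ¬ P b → ∀ g : X, orderOf g ≠ a * b) :
    ∃ C : Subgroup X, Subgroup.IsComplement' N C ∧ C ≠ ⊥ ∧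
      (∀ c ∈ C, c ≠ 1 → N ⊓ Subgroup.centralizer {c} = ⊥) := by
  have hcop : (Nat.card N).Coprime N.index := by
    apply Nat.coprime_of_dvd
    intro p hp h1 h2
    exact hI p hp h2 (hN p hp h1)
  obtain ⟨C, hC⟩ := Subgroup.exists_right_complement'_of_coprime hcop
  refine ⟨C, hC, ?_, ?_⟩
  · rintro rfl
    exact hN2 (Subgroup.isComplement'_bot_right.1 hC)
  · intro c hc hc1
    rw [Subgroup.eq_bot_iff_forall]
    intro n hn
    obtain ⟨hnN, hnc⟩ := Subgroup.mem_inf.1 hn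
    rw [Subgroup.mem_centralizer_singleton_iff] at hnc
    by_contra hn1
    obtain ⟨a, ha, han⟩ := Nat.exists_prime_and_dvd
      (fun h => hn1 (orderOf_eq_one_iff.1 h) : orderOf n ≠ 1)
    obtain ⟨b, hb, hbc⟩ := Nat.exists_prime_and_dvd
      (fun h => hc1 (orderOf_eq_one_iff.1 h) : orderOf c ≠ 1)
    have hPa : P a := hN a ha (han.trans (by
      have := orderOf_dvd_natCard (⟨n, hnN⟩ : ↥N)
      rwa [Subgroup.orderOf_mk] at this))
    have hPb : ¬ P b := hI b hb (by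
      rw [hC.symm.index_eq_card]
      exact hbc.trans (by
        have := orderOf_dvd_natCard (⟨c, hc⟩ : ↥C)
        rwa [Subgroup.orderOf_mk] at this))
    have hab : a ≠ b := by
      rintro rfl
      exact hPb hPa
    have h1 : orderOf (n ^ (orderOf n / a)) = a :=
      orderOf_pow_orderOf_div (orderOf_pos n).ne' han
    have h2 : orderOf (c ^ (orderOf c / b)) = b :=
      orderOf_pow_orderOf_div (orderOf_pos c).ne' hbc
    have hcomm : Commute n c := hnc
    exact hmix a b ha hb hPa hPb _ (tf_orderOf_mul ha hb hab ((hcomm.pow_pow _ _).eq) h1 h2)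

theorem gk_main {G : Type*} [Group G] [Finite G] (hsol : Group.IsSolvable G) (P : ℕ → Prop)
    (hmix : ∀ a b : ℕ, a.Prime → b.Prime → P a → ¬ P b → ∀ g : G, orderOf g ≠ a * b)
    (hV : ∃ V : Subgroup G, V.Normal ∧ V ≠ ⊥ ∧ GkPi P (Nat.card V))
    (hb : ∃ b : ℕ, b.Prime ∧ ¬ P b ∧ b ∣ Nat.card G) :
    (∃ C : Subgroup G, Cfsg.IsFrobeniusComplement C) ∨
    (∃ (H K : Subgroup G) (_ : H.Normal), K.Normal ∧ H < K ∧
      (∃ C : Subgroup ↥K, Cfsg.IsFrobeniusComplement C ∧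
        Cfsg.frobeniusKernel C = (H.subgroupOf K : Set ↥K)) ∧
      (∃ C : Subgroup (G ⧸ H), Cfsg.IsFrobeniusComplement C ∧
        Cfsg.frobeniusKernel C = (K.map (QuotientGroup.mk' H) : Set (G ⧸ H)))) := by
  classical
  obtain ⟨N, hNn, hN, hNmax⟩ := gk_exists_max (X := G) P
  haveI := hNn
  have hN1 : N ≠ ⊥ := by
    obtain ⟨V, hVn, hVne, hVP⟩ := hV
    intro e
    apply hVne
    rw [eq_bot_iff, ← e]
    exact hNmax V hVn hVP
  obtain ⟨Kb, hKbn, hKb, hKbmax⟩ := gk_exists_max (X := G ⧸ N) (fun p => ¬ P p)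
  haveI := hKbn
  have hmixQ : ∀ a b : ℕ, a.Prime → b.Prime → P a → ¬ P b → ∀ y : G ⧸ N, orderOf y ≠ a * b := by
    intro a b ha hb hPa hPb y hy
    obtain ⟨g, hg⟩ := tf_exists_orderOf (QuotientGroup.mk' N) (QuotientGroup.mk'_surjective N) y
    exact hmix a b ha hb hPa hPb g (hg.trans hy)
  obtain ⟨b0, hb0, hPb0, hb0G⟩ := hb
  have hb0I : b0 ∣ N.index := by
    rw [← N.card_mul_index] at hb0G
    rcases (Nat.Prime.dvd_mul hb0).1 hb0G with h | h
    · exact absurd (hN b0 hb0 h) hPb0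
    · exact h
  have hN2 : N ≠ ⊤ := by
    intro e
    rw [e, Subgroup.index_top] at hb0I
    exact hb0.one_lt.ne' (Nat.dvd_one.1 hb0I)
  haveI : Group.IsSolvable (G ⧸ N) := inferInstance
  have htop : (⊤ : Subgroup (G ⧸ N)) ≠ ⊥ := by
    intro e
    apply hN2
    rw [eq_top_iff]
    intro x _
    have h1 : (QuotientGroup.mk x : G ⧸ N) ∈ (⊤ : Subgroup (G ⧸ N)) := Subgroup.mem_top _
    rw [e, Subgroup.mem_bot] at h1
    exact (QuotientGroup.eq_one_iff x).1 h1
  have hKbne : Kb ≠ ⊥ := by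
    obtain ⟨p, W, hp, hWn, _, hWne, hWp, _⟩ := gk_exists_normal_pgroup (⊤ : Subgroup (G ⧸ N)) htop
    haveI := hWn
    by_cases hPp : P p
    · exact absurd (gk_quot_bot P N hN hNmax W (gk_pgroup P hp W hWp hPp)) hWne
    · intro e
      apply hWne
      rw [eq_bot_iff, ← e]
      exact hKbmax W hWn (gk_pgroup (fun p => ¬ P p) hp W hWp hPp)
  by_cases hKbtop : Kb = ⊤
  · left
    have hI : GkPi (fun p => ¬ P p) N.index := by
      have h1 : N.index = Nat.card ↥Kb := by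
        rw [hKbtop, Subgroup.card_top]
        rfl
      rw [h1]
      exact hKb
    obtain ⟨C, hC, hCne, hCf⟩ := gk_frob P N hN2 hN hI hmix
    exact ⟨C, (Cfsg.Agent.Lib.Helper15.frob_of_fpf N C hC hN1 hCne hCf).1⟩
  · right
    obtain ⟨K, hKdef⟩ : ∃ K : Subgroup G, K = Kb.comap (QuotientGroup.mk' N) := ⟨_, rfl⟩
    have hKn : K.Normal := by rw [hKdef]; infer_instance
    haveI := hKn
    have hNK : N ≤ K := by rw [hKdef]; exact gk_le_comap N Kb
    have hmap : K.map (QuotientGroup.mk' N) = Kb := by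
      rw [hKdef]
      exact Subgroup.map_comap_eq_self_of_surjective (QuotientGroup.mk'_surjective N) Kb
    have hlt : N < K := by
      refine lt_of_le_of_ne hNK ?_
      intro e
      apply hKbne
      rw [← hmap, ← e, eq_bot_iff]
      rintro _ ⟨x, hx, rfl⟩
      exact Subgroup.mem_bot.2 ((QuotientGroup.eq_one_iff x).2 hx)
    -- the Frobenius group `K`
    have hS2 : N.subgroupOf K ≠ ⊤ := by
      intro e
      exact hlt.not_ge (Subgroup.subgroupOf_eq_top.1 e)
    have hS1 : N.subgroupOf K ≠ ⊥ := by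
      intro e
      apply hN1
      rw [Subgroup.eq_bot_iff_forall]
      intro x hx
      have h1 : (⟨x, hNK hx⟩ : ↥K) ∈ N.subgroupOf K := Subgroup.mem_subgroupOf.2 hx
      rw [e, Subgroup.mem_bot] at h1
      exact congrArg Subtype.val h1
    have hSc : GkPi P (Nat.card ↥(N.subgroupOf K)) := by
      rw [Nat.card_congr (Subgroup.subgroupOfEquivOfLe hNK).toEquiv]
      exact hN
    have hSi : GkPi (fun p => ¬ P p) (N.subgroupOf K).index := by
      have h1 : (N.subgroupOf K).index = Nat.card ↥Kb := by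
        rw [← gk_relIndex_comap N Kb, ← hKdef]
        rfl
      rw [h1]
      exact hKb
    have hmixK : ∀ a b : ℕ, a.Prime → b.Prime → P a → ¬ P b → ∀ g : ↥K, orderOf g ≠ a * b := by
      intro a b ha hb hPa hPb g hg
      rw [← Subgroup.orderOf_coe] at hg
      exact hmix a b ha hb hPa hPb g hg
    obtain ⟨B0, hB0c, hB0ne, hB0f⟩ := gk_frob P (N.subgroupOf K) hS2 hSc hSi hmixK
    have hB0 := Cfsg.Agent.Lib.Helper15.frob_of_fpf (N.subgroupOf K) B0 hB0c hS1 hB0ne hB0f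
    have hNnil' : Group.IsNilpotent ↥(N.subgroupOf K) := by
      obtain ⟨M, hMs, _, hMnil⟩ := Cfsg.Agent.S0042.result B0 hB0.1
      have hM : M = N.subgroupOf K := SetLike.coe_injective (hMs.trans hB0.2)
      subst hM
      exact hMnil
    have hNnil : Group.IsNilpotent ↥N :=
      Group.nilpotent_of_mulEquiv (Subgroup.subgroupOfEquivOfLe hNK)
    have hF1 : ∀ v ∈ N, v ≠ 1 → ∀ k ∈ K, k * v = v * k → k ∈ N := by
      intro v hv hv1 k hk hkv
      have := tf_centralizer_le_kernel (N.subgroupOf K) B0 hB0c hB0f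
        ⟨v, hNK hv⟩ (Subgroup.mem_subgroupOf.2 hv) (fun e => hv1 (congrArg Subtype.val e))
        ⟨k, hk⟩ (Subtype.ext hkv)
      exact Subgroup.mem_subgroupOf.1 this
    -- a normal subgroup of prime order in the quotient
    obtain ⟨r, V, hr, hVn, hVK, hVne, hVp, hVc⟩ := gk_exists_normal_pgroup Kb hKbne
    haveI : Fact r.Prime := ⟨hr⟩
    obtain ⟨z, hzV, hz⟩ := tf_exists_prime_of_pgroup r V hVp hVne
    have hPr : ¬ P r := by
      apply hKb r hr
      rw [← hz]
      have := orderOf_dvd_natCard (⟨z, hVK hzV⟩ : ↥Kb)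
      rwa [Subgroup.orderOf_mk] at this
    have hzc : ∀ c : G ⧸ N, c * z * c⁻¹ ∈ Subgroup.zpowers z := by
      intro c
      have h1 : c * z * c⁻¹ ∈ V := hVn.conj_mem z hzV c
      have h2 : orderOf (c * z * c⁻¹) = r := by
        rw [← hz]
        exact (MulAut.conj c).orderOf_eq z
      exact tf_unique N K hNnil hN1 hF1 hr (by rw [hmap]; exact hVK hzV)
        (by rw [hmap]; exact hVK h1) (hVc _ hzV _ h1) hz h2
    haveI hZn : (Subgroup.zpowers z).Normal := by
      constructor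
      intro x hx c
      obtain ⟨k, rfl⟩ := Subgroup.mem_zpowers_iff.1 hx
      rw [← conj_zpow]
      exact Subgroup.zpow_mem _ (hzc c) k
    have hT : GkPi (fun p => ¬ P p)
        (Nat.card ↥(Subgroup.centralizer (Subgroup.zpowers z : Set (G ⧸ N)))) := by
      intro a ha haT hPa
      haveI : Fact a.Prime := ⟨ha⟩
      obtain ⟨t, ht⟩ := exists_prime_orderOf_dvd_card'
        (G := ↥(Subgroup.centralizer (Subgroup.zpowers z : Set (G ⧸ N)))) a haT
      rw [← Subgroup.orderOf_coe] at ht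
      have h1 := Subgroup.mem_centralizer_iff.1 t.2 z (Subgroup.mem_zpowers z)
      have har : a ≠ r := by
        rintro rfl
        exact hPr hPa
      exact hmixQ a r ha hr hPa hPr _ (tf_orderOf_mul ha hr har h1.symm ht hz)
    have hTK : Subgroup.centralizer (Subgroup.zpowers z : Set (G ⧸ N)) ≤ Kb :=
      hKbmax _ inferInstance hT
    have hcommQ : ∀ x y : G ⧸ N, (y * x)⁻¹ * (x * y) ∈ Kb := by
      intro c d
      apply hTK
      obtain ⟨i, hi⟩ := Subgroup.mem_zpowers_iff.1 (hzc c)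
      obtain ⟨j, hj⟩ := Subgroup.mem_zpowers_iff.1 (hzc d)
      have e1 : (c * d) * z * (c * d)⁻¹ = z ^ (i * j) := by
        calc (c * d) * z * (c * d)⁻¹ = c * (d * z * d⁻¹) * c⁻¹ := by group
          _ = c * z ^ j * c⁻¹ := by rw [hj]
          _ = (c * z * c⁻¹) ^ j := (conj_zpow).symm
          _ = z ^ (i * j) := by rw [← hi, zpow_mul]
      have e2 : (d * c) * z * (d * c)⁻¹ = z ^ (i * j) := by
        calc (d * c) * z * (d * c)⁻¹ = d * (c * z * c⁻¹) * d⁻¹ := by group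
          _ = d * z ^ i * d⁻¹ := by rw [hi]
          _ = (d * z * d⁻¹) ^ i := (conj_zpow).symm
          _ = z ^ (i * j) := by rw [← hj, ← zpow_mul, mul_comm]
      have e3 : z * ((d * c)⁻¹ * (c * d)) = ((d * c)⁻¹ * (c * d)) * z := by
        have e4 : (c * d) * z * (c * d)⁻¹ = (d * c) * z * (d * c)⁻¹ := e1.trans e2.symm
        calc z * ((d * c)⁻¹ * (c * d))
            = (d * c)⁻¹ * ((d * c) * z * (d * c)⁻¹) * (c * d) := by group
          _ = (d * c)⁻¹ * ((c * d) * z * (c * d)⁻¹) * (c * d) := by rw [e4]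
          _ = ((d * c)⁻¹ * (c * d)) * z := by group
      rw [Subgroup.mem_centralizer_iff]
      intro h hh
      obtain ⟨k, rfl⟩ := Subgroup.mem_zpowers_iff.1 hh
      have hc : Commute z ((d * c)⁻¹ * (c * d)) := e3
      exact (hc.zpow_left k).eq
    have hQcomm : ∀ x y : (G ⧸ N) ⧸ Kb, x * y = y * x := by
      intro x y
      obtain ⟨x, rfl⟩ := QuotientGroup.mk_surjective x
      obtain ⟨y, rfl⟩ := QuotientGroup.mk_surjective y
      rw [← QuotientGroup.mk_mul, ← QuotientGroup.mk_mul]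
      exact (QuotientGroup.eq.2 (hcommQ x y)).symm
    have hI2 : GkPi (fun p => ¬ ¬ P p) Kb.index := by
      intro b hb hbI hPb
      haveI : Fact b.Prime := ⟨hb⟩
      obtain ⟨y, hy⟩ := exists_prime_orderOf_dvd_card' (G := (G ⧸ N) ⧸ Kb) b hbI
      haveI : (Subgroup.zpowers y).Normal := by
        constructor
        intro x hx c
        rw [hQcomm c x, mul_assoc, mul_inv_cancel, mul_one]
        exact hx
      have h1 : GkPi (fun p => ¬ P p) (Nat.card ↥(Subgroup.zpowers y)) := by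
        rw [Nat.card_zpowers, hy]
        intro q hq hqb
        rw [(Nat.prime_dvd_prime_iff_eq hq hb).1 hqb]
        exact hPb
      have h2 := gk_quot_bot (fun p => ¬ P p) Kb hKb hKbmax (Subgroup.zpowers y) h1
      have h3 : y ∈ Subgroup.zpowers y := Subgroup.mem_zpowers y
      rw [h2, Subgroup.mem_bot] at h3
      rw [h3, orderOf_one] at hy
      exact hb.one_lt.ne hy
    have hmixQ' : ∀ a b : ℕ, a.Prime → b.Prime → ¬ P a → ¬ ¬ P b →
        ∀ y : G ⧸ N, orderOf y ≠ a * b := by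
      intro a b ha hb hPa hPb y hy
      exact hmixQ b a hb ha (not_not.1 hPb) hPa y (by rw [hy, mul_comm])
    obtain ⟨D, hDc, hDne, hDf⟩ := gk_frob (fun p => ¬ P p) Kb hKbtop hKb hI2 hmixQ'
    have hD := Cfsg.Agent.Lib.Helper15.frob_of_fpf Kb D hDc hKbne hDne hDf
    refine ⟨N, K, hNn, hKn, hlt, ⟨B0, hB0.1, hB0.2⟩, ⟨D, hD.1, ?_⟩⟩
    rw [hmap]
    exact hD.2

end Cfsg.Agent.Lib.Helper21
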