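import Mathlib

set_option autoImplicit false

namespace Cfsg.Agent.Lib.Helper21

open Polynomial

/-- An irreducible module `V` of exponent `q` for an operator `φ` with `φ ^ p = 1` has at most `q ^ e`
elements as soon as `q ^ e ≡ 1 (mod p)`. -/
theorem card_le_of_irred {V : Type*} [AddCommGroup V] [Finite V] (q p e t : ℕ) (hq : q.Prime)
    (he : e ≠ 0) (hmod : q ^ e = 1 + p * t) (hqV : ∀ v : V, q • v = 0) (φ : Module.End ℤ V)
    (hφ : φ ^ p = 1)
    (hirr : ∀ W : AddSubgroup V, (∀ w ∈ W, φ w ∈ W) → W = ⊥ ∨ W = ⊤) : Nat.card V ≤ q ^ e := by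
  classical
  rcases subsingleton_or_nontrivial V with hs | hnt
  · rw [Nat.card_of_subsingleton (0 : V)]
    exact Nat.one_le_pow _ _ hq.pos
  obtain ⟨v, hv⟩ := exists_ne (0 : V)
  have hspan : ∀ w : V, w ≠ 0 → ∀ u : V, ∃ h : ℤ[X], aeval φ h w = u := by
    intro w hw u
    let W : AddSubgroup V :=
      { carrier := {u | ∃ h : ℤ[X], aeval φ h w = u}
        zero_mem' := ⟨0, by simp⟩
        add_mem' := by
          rintro _ _ ⟨h1, rfl⟩ ⟨h2, rfl⟩
          exact ⟨h1 + h2, by rw [map_add, LinearMap.add_apply]⟩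
        neg_mem' := by
          rintro _ ⟨h, rfl⟩
          exact ⟨-h, by rw [map_neg, LinearMap.neg_apply]⟩ }
    have hinv : ∀ u ∈ W, φ u ∈ W := by
      rintro _ ⟨h, rfl⟩
      exact ⟨X * h, by rw [map_mul, aeval_X, Module.End.mul_apply]⟩
    rcases hirr W hinv with h | h
    · exfalso
      have h1 : w ∈ W := ⟨1, by rw [map_one, Module.End.one_apply]⟩
      rw [h] at h1
      exact hw (AddSubgroup.mem_bot.1 h1)
    · have h1 : u ∈ W := by rw [h]; trivial
      exact h1
  let I : Ideal ℤ[X] :=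
    { carrier := {f | aeval φ f v = 0}
      add_mem' := by
        intro a b ha hb
        simp only [Set.mem_setOf_eq] at *
        rw [map_add, LinearMap.add_apply, ha, hb, add_zero]
      zero_mem' := by simp
      smul_mem' := by
        intro c f hf
        simp only [Set.mem_setOf_eq, smul_eq_mul] at *
        rw [map_mul, Module.End.mul_apply, hf, map_zero] }
  have hI : ∀ f, f ∈ I ↔ aeval φ f v = 0 := fun f => Iff.rfl
  haveI hprime : I.IsPrime := by
    refine ⟨?_, ?_⟩
    · intro h
      have h1 : (1 : ℤ[X]) ∈ I := by rw [h]; trivial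
      rw [hI, map_one, Module.End.one_apply] at h1
      exact hv h1
    · intro f g hfg
      by_contra hcon
      push Not at hcon
      obtain ⟨hf, hg⟩ := hcon
      rw [hI] at hf hg hfg
      obtain ⟨h, hh⟩ := hspan _ hf v
      apply hg
      calc aeval φ g v = aeval φ g (aeval φ h (aeval φ f v)) := by rw [hh]
        _ = aeval φ (h * (f * g)) v := by
            rw [← Module.End.mul_apply, ← Module.End.mul_apply, ← map_mul, ← map_mul]
            congr 2
            ring
        _ = 0 := by rw [map_mul, Module.End.mul_apply, hfg, map_zero]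
  haveI : IsDomain (ℤ[X] ⧸ I) := Ideal.Quotient.isDomain I
  have hq0 : ((q : ℕ) : ℤ[X] ⧸ I) = 0 := by
    have h1 : ((q : ℕ) : ℤ[X]) ∈ I := by
      rw [hI, map_natCast, Module.End.natCast_apply]
      exact hqV v
    have h2 := Ideal.Quotient.eq_zero_iff_mem.2 h1
    rwa [map_natCast] at h2
  haveI : CharP (ℤ[X] ⧸ I) q := (CharP.charP_iff_prime_eq_zero hq).2 hq0
  haveI : ExpChar (ℤ[X] ⧸ I) q := ExpChar.prime hq
  have hX : (Ideal.Quotient.mk I X) ^ p = 1 := by
    have h1 : (X ^ p - 1 : ℤ[X]) ∈ I := by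
      rw [hI, map_sub, map_pow, aeval_X, map_one, hφ, sub_self, LinearMap.zero_apply]
    have h2 := Ideal.Quotient.eq_zero_iff_mem.2 h1
    rw [map_sub, map_pow, map_one, sub_eq_zero] at h2
    exact h2
  have hFrob : (iterateFrobenius (ℤ[X] ⧸ I) q e).comp (Ideal.Quotient.mk I) = Ideal.Quotient.mk I := by
    apply Polynomial.ringHom_ext
    · intro a
      have h1 := eq_intCast (((iterateFrobenius (ℤ[X] ⧸ I) q e).comp (Ideal.Quotient.mk I)).comp C) a
      have h2 := eq_intCast ((Ideal.Quotient.mk I).comp C) a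
      exact h1.trans h2.symm
    · show (Ideal.Quotient.mk I X) ^ q ^ e = Ideal.Quotient.mk I X
      rw [hmod, pow_add, pow_one, pow_mul, hX, one_pow, mul_one]
  have hall : ∀ a : ℤ[X] ⧸ I, a ^ q ^ e = a := by
    intro a
    obtain ⟨f, rfl⟩ := Ideal.Quotient.mk_surjective a
    exact RingHom.congr_fun hFrob f
  choose s hs using hspan v hv
  have hinj : Function.Injective (fun u : V => Ideal.Quotient.mk I (s u)) := by
    intro u u' h
    have h1 : s u - s u' ∈ I := (Ideal.Quotient.eq).1 h
    rw [hI, map_sub, LinearMap.sub_apply, hs, hs, sub_eq_zero] at h1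
    exact h1
  have hN : 1 < q ^ e := Nat.one_lt_pow he hq.one_lt
  have hdeg : (X ^ q ^ e - X : (ℤ[X] ⧸ I)[X]).natDegree = q ^ e := by
    have h1 : (X : (ℤ[X] ⧸ I)[X]).degree < (X ^ q ^ e : (ℤ[X] ⧸ I)[X]).degree := by
      rw [degree_X_pow, degree_X]
      exact mod_cast hN
    rw [natDegree_eq_of_degree_eq (degree_sub_eq_left_of_degree_lt h1), natDegree_X_pow]
  have hne : (X ^ q ^ e - X : (ℤ[X] ⧸ I)[X]) ≠ 0 :=
    ne_zero_of_natDegree_gt (n := 1) (by rw [hdeg]; exact hN)
  haveI := Fintype.ofFinite V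
  let Z : Finset (ℤ[X] ⧸ I) := Finset.univ.image (fun u : V => Ideal.Quotient.mk I (s u))
  have hZ : Z.val ⊆ (X ^ q ^ e - X : (ℤ[X] ⧸ I)[X]).roots := by
    intro a _
    rw [mem_roots hne, IsRoot.def, eval_sub, eval_pow, eval_X, hall, sub_self]
  have h9 := card_le_degree_of_subset_roots hZ
  rw [hdeg, Finset.card_image_of_injective _ hinj, Finset.card_univ,
    ← Nat.card_eq_fintype_card] at h9
  exact h9

/-- Multiplicative form: an abelian group `A` of exponent `q` on which an endomorphism `φ` of order `p`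
acts irreducibly and non-trivially has order `q ^ e`, `e` the order of `q` modulo `p`. -/
theorem card_eq_of_irred {A : Type*} [Group A] [Finite A] (p q : ℕ) [Fact p.Prime] (hq : q.Prime)
    (hpq : q ≠ p) (hcomm : ∀ a b : A, a * b = b * a) (hexp : ∀ a : A, a ^ q = 1) (φ : A →* A)
    (hφp : ∀ a, φ^[p] a = a) (hφ1 : ∃ a, φ a ≠ a)
    (hirr : ∀ B : Subgroup A, (∀ b ∈ B, φ b ∈ B) → B = ⊥ ∨ B = ⊤) :
    Nat.card A = q ^ orderOf (q : ZMod p) := by
  classical
  have hp : p.Prime := Fact.out
  haveI : Fact q.Prime := ⟨hq⟩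
  letI : CommGroup A := { ‹Group A› with mul_comm := hcomm }
  set e := orderOf (q : ZMod p) with he
  have hq0 : (q : ZMod p) ≠ 0 := by
    intro h
    rw [ZMod.natCast_eq_zero_iff] at h
    exact hpq ((Nat.prime_dvd_prime_iff_eq hp hq).mp h).symm
  have he0 : e ≠ 0 := by
    have h1 : IsOfFinOrder (q : ZMod p) :=
      isOfFinOrder_iff_pow_eq_one.mpr ⟨p - 1, by have := hp.two_le; omega,
        ZMod.pow_card_sub_one_eq_one hq0⟩
    exact (orderOf_pos_iff.mpr h1).ne'
  have hmod : ∃ t, q ^ e = 1 + p * t := by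
    have h1 : ((q ^ e : ℕ) : ZMod p) = ((1 : ℕ) : ZMod p) := by
      rw [Nat.cast_pow, he, pow_orderOf_eq_one, Nat.cast_one]
    have h2 := ((ZMod.natCast_eq_natCast_iff _ _ _).mp h1).symm
    have h3 : 1 ≤ q ^ e := Nat.one_le_pow _ _ hq.pos
    obtain ⟨t, ht⟩ := (Nat.modEq_iff_dvd' h3).mp h2
    exact ⟨t, by omega⟩
  obtain ⟨t, ht⟩ := hmod
  -- upper bound
  let Φ : Module.End ℤ (Additive A) := (MonoidHom.toAdditive φ).toIntLinearMap
  have hit : ∀ (n : ℕ) (a : A), (⇑Φ)^[n] (Additive.ofMul a) = Additive.ofMul (φ^[n] a) := by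
    intro n
    induction n with
    | zero => intro a; rfl
    | succ n ih =>
      intro a
      rw [Function.iterate_succ_apply', Function.iterate_succ_apply', ih]
      rfl
  have hle : Nat.card (Additive A) ≤ q ^ e := by
    apply card_le_of_irred q p e t hq he0 ht _ Φ
    · apply LinearMap.ext
      intro v
      rw [Module.End.pow_apply]
      have h1 := hit p (Additive.toMul v)
      rw [hφp] at h1
      exact h1
    · intro W hW
      let B : Subgroup A :=
        { carrier := {a | Additive.ofMul a ∈ W}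
          mul_mem' := fun ha hb => W.add_mem ha hb
          one_mem' := W.zero_mem
          inv_mem' := fun ha => W.neg_mem ha }
      rcases hirr B (fun b hb => hW _ hb) with h | h
      · left
        rw [AddSubgroup.eq_bot_iff_forall]
        intro w hw
        have h1 : Additive.toMul w ∈ B := hw
        rw [h, Subgroup.mem_bot] at h1
        exact h1
      · right
        rw [eq_top_iff]
        intro w _
        have h1 : Additive.toMul w ∈ B := by rw [h]; trivial
        exact h1
    · intro v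
      exact hexp (Additive.toMul v)
  have hle' : Nat.card A ≤ q ^ e := hle
  -- the order of `A`
  have hpg : IsPGroup q A := fun a => ⟨1, by rw [pow_one]; exact hexp a⟩
  obtain ⟨d, hd⟩ := IsPGroup.iff_card.mp hpg
  -- fixed points
  let F : Subgroup A :=
    { carrier := {a | φ a = a}
      mul_mem' := fun {a b} ha hb => by
        show φ (a * b) = a * b
        rw [map_mul, show φ a = a from ha, show φ b = b from hb]
      one_mem' := map_one φ
      inv_mem' := fun {a} ha => by
        show φ a⁻¹ = a⁻¹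
        rw [map_inv, show φ a = a from ha] }
  have hF : F = ⊥ := by
    rcases hirr F (fun b hb => by
      show φ (φ b) = φ b
      exact congrArg φ hb) with h | h
    · exact h
    · exfalso
      obtain ⟨a, ha⟩ := hφ1
      have h1 : a ∈ F := by rw [h]; trivial
      exact ha h1
  have := Fintype.ofFinite A
  let f : Function.End A := ⇑φ
  have hf : f ^ p ^ 1 = 1 := by
    rw [pow_one]
    funext a
    exact hφp a
  have hfix := Equiv.Perm.card_fixedPoints_modEq hf
  have hfix1 : Fintype.card (Function.fixedPoints f) = 1 := by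
    rw [Fintype.card_eq_one_iff]
    refine ⟨⟨1, map_one φ⟩, ?_⟩
    rintro ⟨a, ha⟩
    apply Subtype.ext
    have h1 : a ∈ F := ha
    rw [hF, Subgroup.mem_bot] at h1
    exact h1
  rw [hfix1, ← Nat.card_eq_fintype_card, hd] at hfix
  have h1 : (q : ZMod p) ^ d = 1 := by
    have h2 := (ZMod.natCast_eq_natCast_iff _ _ _).mpr hfix
    rwa [Nat.cast_pow, Nat.cast_one] at h2
  have hed : e ∣ d := orderOf_dvd_of_pow_eq_one h1
  have hd0 : d ≠ 0 := by
    rintro rfl
    rw [pow_zero, Nat.card_eq_one_iff_unique] at hd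
    obtain ⟨a, ha⟩ := hφ1
    exact ha (hd.1.elim _ _)
  have h2 : e ≤ d := Nat.le_of_dvd (Nat.pos_of_ne_zero hd0) hed
  rw [hd] at hle'
  have h3 : d ≤ e := (Nat.pow_le_pow_iff_right hq.one_lt).mp hle'
  rw [hd, le_antisymm h3 h2]

end Cfsg.Agent.Lib.Helper21
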