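import Mathlib
import Cfsg.Prelude.Def_Transfer

set_option autoImplicit false

namespace Cfsg.Agent.Lib.Helper21

open MulAction

/-- Number of conjugacy classes all of whose elements satisfy `Q`. -/
noncomputable def kOf (G : Type*) [Group G] (Q : G → Prop) : ℕ :=
  Nat.card {c : ConjClasses G // ∀ x ∈ c.carrier, Q x}

lemma orderOf_conj_eq {G : Type*} [Group G] (g x : G) : orderOf (g * x * g⁻¹) = orderOf x :=
  (MulAut.conj g).orderOf_eq x

lemma orderOf_eq_of_isConj {G : Type*} [Group G] {x y : G} (h : IsConj x y) :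
    orderOf x = orderOf y := by
  obtain ⟨g, hg⟩ := isConj_iff.1 h
  rw [← hg, orderOf_conj_eq]

/-- Burnside orbit counting with a bound on the fixed points outside a proper subgroup. -/
lemma orbit_bound {N X : Type*} [Group N] [Finite N] [Finite X] [MulAction N X] (p : ℕ)
    (hp : 1 ≤ p) (C : Subgroup N) (hC : C ≠ ⊤)
    (hfix : ∀ n : N, n ∉ C → p * Nat.card (fixedBy X n) ≤ Nat.card X) :
    2 * p * Nat.card (Quotient (orbitRel N X)) ≤ (p + 1) * Nat.card X := by
  classical
  haveI := Fintype.ofFinite N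
  haveI := Fintype.ofFinite X
  haveI : ∀ n : N, Fintype (fixedBy X n) := fun n => Fintype.ofFinite _
  haveI : Fintype (Quotient (orbitRel N X)) := Fintype.ofFinite _
  have hB := sum_card_fixedBy_eq_card_orbits_mul_card_group N X
  simp only [← Nat.card_eq_fintype_card] at hB
  have h1 : ∀ n : N, p * Nat.card (fixedBy X n) ≤
      Nat.card X + (if n ∈ C then (p - 1) * Nat.card X else 0) := by
    intro n
    by_cases hn : n ∈ C
    · rw [if_pos hn]
      have h2 : Nat.card (fixedBy X n) ≤ Nat.card X :=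
        Nat.card_le_card_of_injective _ Subtype.val_injective
      calc p * Nat.card (fixedBy X n) ≤ p * Nat.card X := Nat.mul_le_mul_left _ h2
        _ = Nat.card X + (p - 1) * Nat.card X := by
          obtain ⟨q, rfl⟩ := Nat.exists_eq_add_of_le hp
          simp only [Nat.add_sub_cancel_left]; ring
    · rw [if_neg hn]; exact hfix n hn
  have h2 : ∑ n : N, p * Nat.card (fixedBy X n) ≤
      Nat.card N * Nat.card X + Nat.card C * ((p - 1) * Nat.card X) := by
    refine (Finset.sum_le_sum (fun n _ => h1 n)).trans (le_of_eq ?_)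
    rw [Finset.sum_add_distrib, Finset.sum_const, Finset.card_univ, smul_eq_mul,
      ← Nat.card_eq_fintype_card, ← Finset.sum_filter, Finset.sum_const, smul_eq_mul]
    congr 2
    rw [Nat.card_eq_fintype_card, Fintype.card_subtype]
  rw [← Finset.mul_sum, hB] at h2
  have h3 : 2 * Nat.card C ≤ Nat.card N := by
    have h4 := C.card_mul_index
    have h5 : C.index ≠ 1 := fun h => hC (Subgroup.index_eq_one.1 h)
    have h6 : C.index ≠ 0 := Subgroup.index_ne_zero_of_finite
    have h7 : 2 ≤ C.index := by omega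
    calc 2 * Nat.card C = Nat.card C * 2 := mul_comm _ _
      _ ≤ Nat.card C * C.index := Nat.mul_le_mul_left _ h7
      _ = Nat.card N := h4
  have hN : 0 < Nat.card N := Nat.card_pos
  apply Nat.le_of_mul_le_mul_right _ hN
  obtain ⟨q, rfl⟩ := Nat.exists_eq_add_of_le hp
  simp only [Nat.add_sub_cancel_left] at h2
  nlinarith [Nat.mul_le_mul_right (q * Nat.card X) h3]

section sylow

variable {G : Type*} [Group G] [Finite G] {p : ℕ} [Fact p.Prime] (P : Sylow p G)

/-- conjugation action of the normalizer on a Sylow subgroup. -/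
def normalizerAct :
    MulAction (Subgroup.normalizer ((P : Subgroup G) : Set G)) (P : Subgroup G) where
  smul n x := ⟨n * x * n⁻¹, (Subgroup.mem_normalizer_iff.1 n.2 x).1 x.2⟩
  one_smul x := by
    apply Subtype.ext
    change ((1 : Subgroup.normalizer ((P : Subgroup G) : Set G)) : G) * x * _ = x
    simp
  mul_smul a b x := by
    apply Subtype.ext
    change ((a * b : Subgroup.normalizer ((P : Subgroup G) : Set G)) : G) * x * _ =
      (a : G) * ((b : G) * x * (b : G)⁻¹) * (a : G)⁻¹
    simp [mul_assoc]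

lemma isPElt_of_mem (x : G) (hx : x ∈ (P : Subgroup G)) : ∃ k : ℕ, orderOf x = p ^ k := by
  obtain ⟨k, hk⟩ := P.2 ⟨x, hx⟩
  have h1 : x ^ p ^ k = 1 := by simpa using congrArg Subtype.val hk
  obtain ⟨j, _, hj⟩ := (Nat.dvd_prime_pow Fact.out).1 (orderOf_dvd_of_pow_eq_one h1)
  exact ⟨j, hj⟩

lemma exists_conj_mem_sylow (y : G) (hy : ∃ k : ℕ, orderOf y = p ^ k) :
    ∃ g : G, g * y * g⁻¹ ∈ (P : Subgroup G) := by
  have h1 : IsPGroup p (Subgroup.zpowers y) := by
    obtain ⟨k, hk⟩ := hy
    apply IsPGroup.of_card (n := k)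
    rw [Nat.card_zpowers, hk]
  obtain ⟨Q, hQ⟩ := h1.exists_le_sylow
  obtain ⟨g, hg⟩ := MulAction.exists_smul_eq G Q P
  refine ⟨g, ?_⟩
  rw [← hg, Sylow.coe_subgroup_smul]
  have := Subgroup.smul_mem_pointwise_smul y (MulAut.conj g) (Q : Subgroup G)
    (hQ (Subgroup.mem_zpowers y))
  simpa using this

/-- the class of an element of `P`, as a class of `p`-elements -/
def classOfMem (x : (P : Subgroup G)) :
    {c : ConjClasses G // ∀ x ∈ c.carrier, ∃ k : ℕ, orderOf x = p ^ k} :=
  ⟨ConjClasses.mk (x : G), fun y hy => by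
    rw [ConjClasses.mem_carrier_iff_mk_eq, ConjClasses.mk_eq_mk_iff_isConj] at hy
    rw [orderOf_eq_of_isConj hy]
    exact isPElt_of_mem P x x.2⟩

lemma classOfMem_surjective : Function.Surjective (classOfMem P) := by
  rintro ⟨c, hc⟩
  obtain ⟨y, rfl⟩ := ConjClasses.exists_rep c
  obtain ⟨g, hg⟩ := exists_conj_mem_sylow P y (hc y ConjClasses.mem_carrier_mk)
  refine ⟨⟨_, hg⟩, ?_⟩
  apply Subtype.ext
  change ConjClasses.mk (g * y * g⁻¹) = ConjClasses.mk y
  rw [ConjClasses.mk_eq_mk_iff_isConj]
  exact (isConj_iff.2 ⟨g, rfl⟩).symm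

lemma kp_le_card : kOf G (fun x => ∃ k : ℕ, orderOf x = p ^ k) ≤ Nat.card (P : Subgroup G) :=
  Nat.card_le_card_of_surjective _ (classOfMem_surjective P)

lemma kp_le_of_not_le
    (h : ¬ Subgroup.normalizer ((P : Subgroup G) : Set G) ≤
      Subgroup.centralizer ((P : Subgroup G) : Set G)) :
    2 * p * kOf G (fun x => ∃ k : ℕ, orderOf x = p ^ k) ≤ (p + 1) * Nat.card (P : Subgroup G) := by
  letI := normalizerAct P
  have hp : p.Prime := Fact.out
  have hsm : ∀ (n : Subgroup.normalizer ((P : Subgroup G) : Set G)) (x : (P : Subgroup G)),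
      ((n • x : (P : Subgroup G)) : G) = n * x * (n : G)⁻¹ := fun _ _ => rfl
  have h1 := orbit_bound (N := Subgroup.normalizer ((P : Subgroup G) : Set G))
    (X := (P : Subgroup G)) p hp.one_lt.le
    ((Subgroup.centralizer ((P : Subgroup G) : Set G)).subgroupOf _)
    (fun hh => h (Subgroup.subgroupOf_eq_top.1 hh)) ?_
  · refine le_trans (Nat.mul_le_mul_left _ ?_) h1
    let f : Quotient (orbitRel (Subgroup.normalizer ((P : Subgroup G) : Set G)) (P : Subgroup G)) →
        {c : ConjClasses G // ∀ x ∈ c.carrier, ∃ k : ℕ, orderOf x = p ^ k} :=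
      Quotient.lift (classOfMem P) (by
        intro a b hab
        obtain ⟨n, hn⟩ := hab
        apply Subtype.ext
        change ConjClasses.mk (a : G) = ConjClasses.mk (b : G)
        rw [ConjClasses.mk_eq_mk_iff_isConj]
        have : (a : G) = n * b * (n : G)⁻¹ := by rw [← hsm, ← hn]
        rw [this]
        exact (isConj_iff.2 ⟨(n : G), rfl⟩).symm)
    apply Nat.card_le_card_of_surjective f
    intro c
    obtain ⟨x, hx⟩ := classOfMem_surjective P c
    exact ⟨Quotient.mk _ x, hx⟩
  · intro n hn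
    -- fixed points form a proper subgroup
    let H : Subgroup (P : Subgroup G) := (Subgroup.centralizer {(n : G)}).subgroupOf P
    have hH : (fixedBy (P : Subgroup G) n : Set (P : Subgroup G)) = (H : Set (P : Subgroup G)) := by
      ext x
      rw [mem_fixedBy, SetLike.mem_coe, Subgroup.mem_subgroupOf,
        Subgroup.mem_centralizer_singleton_iff, Subtype.ext_iff, hsm, mul_inv_eq_iff_eq_mul]
      exact eq_comm
    have hcard : Nat.card (fixedBy (P : Subgroup G) n) = Nat.card H := by
      rw [hH]; rfl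
    rw [hcard]
    have hne : H ≠ ⊤ := by
      intro htop
      apply hn
      rw [Subgroup.mem_subgroupOf, Subgroup.mem_centralizer_iff]
      intro x hx
      have : (⟨x, hx⟩ : (P : Subgroup G)) ∈ H := by rw [htop]; exact Subgroup.mem_top _
      rw [Subgroup.mem_subgroupOf, Subgroup.mem_centralizer_singleton_iff] at this
      exact this
    obtain ⟨k, hk⟩ := IsPGroup.index P.2 H
    have hk0 : k ≠ 0 := by
      rintro rfl
      exact hne (Subgroup.index_eq_one.1 (by simpa using hk))
    have h3 := H.card_mul_index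
    rw [← h3, hk, mul_comm]
    apply Nat.mul_le_mul_left
    calc p = p ^ 1 := (pow_one p).symm
      _ ≤ p ^ k := Nat.pow_le_pow_right hp.pos (Nat.one_le_iff_ne_zero.2 hk0)

lemma npc_of_le
    (h : Subgroup.normalizer ((P : Subgroup G) : Set G) ≤
      Subgroup.centralizer ((P : Subgroup G) : Set G)) :
    Cfsg.HasNormalPComplement p G ∧ IsMulCommutative (P : Subgroup G) := by
  refine ⟨⟨P, _, inferInstance, MonoidHom.ker_transferSylow_isComplement' P h⟩, ?_⟩
  constructor
  constructor
  intro a b
  have h1 := h (Subgroup.le_normalizer a.2)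
  rw [Subgroup.mem_centralizer_iff] at h1
  exact Subtype.ext (h1 b b.2).symm

lemma card_le_kp (h1 : Cfsg.HasNormalPComplement p G) (h2 : IsMulCommutative (P : Subgroup G)) :
    Nat.card (P : Subgroup G) ≤ kOf G (fun x => ∃ k : ℕ, orderOf x = p ^ k) := by
  obtain ⟨P', N, hN, hc⟩ := h1
  have hp : p.Prime := Fact.out
  apply Nat.card_le_card_of_injective (classOfMem P)
  -- the restriction of the quotient map to P
  let φ : (P : Subgroup G) →* G ⧸ N := (QuotientGroup.mk' N).comp (P : Subgroup G).subtype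
  have hcardP : Nat.card (P : Subgroup G) = Nat.card (P' : Subgroup G) := by
    rw [Sylow.card_eq_multiplicity, Sylow.card_eq_multiplicity]
  have hNcop : (Nat.card N).Coprime p := by
    have h3 := hc.card_mul_card
    have h4 := (P' : Subgroup G).card_mul_index
    have h5 : Nat.card N = (P' : Subgroup G).index := by
      have hpos : 0 < Nat.card (P' : Subgroup G) := Nat.card_pos
      apply Nat.eq_of_mul_eq_mul_right hpos
      rw [h3, ← h4, mul_comm]
    rw [h5]
    exact ((Nat.Prime.coprime_iff_not_dvd hp).2 P'.not_dvd_index).symm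
  have hinj : Function.Injective φ := by
    rw [injective_iff_map_eq_one]
    intro x hx
    have hxN : (x : G) ∈ N := by
      have : (QuotientGroup.mk' N) (x : G) = 1 := hx
      rwa [← MonoidHom.mem_ker, QuotientGroup.ker_mk'] at this
    obtain ⟨k, hk⟩ := isPElt_of_mem P x x.2
    have h3 : orderOf (x : G) ∣ Nat.card N := by
      have := orderOf_dvd_natCard (⟨x, hxN⟩ : N)
      rwa [← Subgroup.orderOf_coe] at this
    have h4 : orderOf (x : G) = 1 := by
      apply Nat.Coprime.eq_one_of_dvd _ h3
      rw [hk]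
      exact Nat.Coprime.pow_left k hNcop.symm
    exact Subtype.ext (orderOf_eq_one_iff.1 h4)
  have hcardQ : Nat.card (G ⧸ N) = Nat.card (P : Subgroup G) := by
    have h3 := hc.card_mul_card
    have h4 := N.card_mul_index
    have hpos : 0 < Nat.card N := Nat.card_pos
    rw [hcardP]
    apply Nat.eq_of_mul_eq_mul_left hpos
    rw [h3]
    exact h4
  have hbij : Function.Bijective φ := hinj.bijective_of_nat_card_le hcardQ.le
  have hcomm : ∀ a b : G ⧸ N, a * b = b * a := by
    intro a b
    obtain ⟨x, rfl⟩ := hbij.2 a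
    obtain ⟨y, rfl⟩ := hbij.2 b
    rw [← map_mul, ← map_mul, h2.is_comm.comm x y]
  intro x y hxy
  have h3 : ConjClasses.mk (x : G) = ConjClasses.mk (y : G) := congrArg Subtype.val hxy
  rw [ConjClasses.mk_eq_mk_iff_isConj, isConj_iff] at h3
  obtain ⟨g, hg⟩ := h3
  apply hinj
  change (QuotientGroup.mk' N) (x : G) = (QuotientGroup.mk' N) (y : G)
  rw [← hg, map_mul, map_mul, hcomm, map_inv, inv_mul_cancel_left]

end sylow

end Cfsg.Agent.Lib.Helper21
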