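import Mathlib
import Cfsg.Agent.Lib.Helper21.KPi

set_option autoImplicit false

namespace Cfsg.Agent.Lib.Helper21

/-- `x` is a `σ`-element. -/
def piElt {G : Type*} [Group G] (σ : Finset ℕ) (x : G) : Prop :=
  ∀ r : ℕ, r.Prime → r ∣ orderOf x → r ∈ σ

/-- the `σ`-part of `n` -/
def piPart (σ : Finset ℕ) (n : ℕ) : ℕ := σ.prod (fun r => r ^ n.factorization r)

noncomputable def crep {G : Type*} [Group G] (c : ConjClasses G) : G :=
  Classical.choose (ConjClasses.exists_rep c)

lemma crep_spec {G : Type*} [Group G] (c : ConjClasses G) : ConjClasses.mk (crep c) = c :=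
  Classical.choose_spec (ConjClasses.exists_rep c)

lemma crep_mem {G : Type*} [Group G] (c : ConjClasses G) : crep c ∈ c.carrier :=
  ConjClasses.mem_carrier_iff_mk_eq.2 (crep_spec c)

/-- decomposition of an element into its `r`-part and `r'`-part -/
lemma exists_r_decomp {G : Type*} [Group G] [Finite G] (r : ℕ) (hr : r.Prime) (x : G) :
    ∃ u v : G, u * v = x ∧ Commute u v ∧ (∃ k : ℕ, orderOf u = r ^ k) ∧
      orderOf v ∣ orderOf x ∧ ¬ r ∣ orderOf v := by
  obtain ⟨a, m, hm, hn⟩ := Nat.exists_eq_pow_mul_and_not_dvd (orderOf_pos x).ne' r hr.one_lt.ne'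
  have hcop : (r ^ a).Coprime m := Nat.Coprime.pow_left a ((Nat.Prime.coprime_iff_not_dvd hr).2 hm)
  obtain ⟨s, t, hst⟩ := Nat.isCoprime_iff_coprime.2 hcop
  have hx1 : x ^ ((r ^ a * m : ℕ) : ℤ) = 1 := by rw [zpow_natCast, ← hn, pow_orderOf_eq_one]
  refine ⟨x ^ (t * (m : ℤ)), x ^ (s * ((r ^ a : ℕ) : ℤ)), ?_, ?_, ?_, ?_⟩
  · rw [← zpow_add, add_comm, hst, zpow_one]
  · exact (Commute.refl x).zpow_zpow _ _
  · have h1 : (x ^ (t * (m : ℤ))) ^ (r ^ a) = 1 := by
      rw [← zpow_natCast, ← zpow_mul]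
      have : t * (m : ℤ) * ((r ^ a : ℕ) : ℤ) = ((r ^ a * m : ℕ) : ℤ) * t := by push_cast; ring
      rw [this, zpow_mul, hx1, one_zpow]
    obtain ⟨j, _, hj⟩ := (Nat.dvd_prime_pow hr).1 (orderOf_dvd_of_pow_eq_one h1)
    exact ⟨j, hj⟩
  · have h1 : (x ^ (s * ((r ^ a : ℕ) : ℤ))) ^ m = 1 := by
      rw [← zpow_natCast, ← zpow_mul]
      have : s * ((r ^ a : ℕ) : ℤ) * (m : ℤ) = ((r ^ a * m : ℕ) : ℤ) * s := by push_cast; ring
      rw [this, zpow_mul, hx1, one_zpow]
    have h2 := orderOf_dvd_of_pow_eq_one h1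
    exact ⟨h2.trans (hn ▸ Dvd.intro_left _ rfl), fun h => hm (h.trans h2)⟩

lemma piElt_of_isConj {G : Type*} [Group G] (σ : Finset ℕ) {x y : G} (h : IsConj x y)
    (hx : piElt σ x) : piElt σ y := by
  intro r hr hd
  rw [← orderOf_eq_of_isConj h] at hd
  exact hx r hr hd

lemma kOf_insert_le {G : Type*} [Group G] [Finite G] (r : ℕ) (hr : r.Prime) (σ : Finset ℕ) (M : ℕ)
    (hM : ∀ u : G, kOf (Subgroup.centralizer {u}) (piElt σ) ≤ M) :
    kOf G (piElt (insert r σ)) ≤ kOf G (fun x => ∃ k : ℕ, orderOf x = r ^ k) * M := by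
  classical
  let R := {c : ConjClasses G // ∀ x ∈ c.carrier, ∃ k : ℕ, orderOf x = r ^ k}
  let D : R → Type _ := fun c =>
    {d : ConjClasses (Subgroup.centralizer {crep c.1}) // ∀ x ∈ d.carrier, piElt σ x}
  have key : ∀ (c : R) (d : D c), piElt (insert r σ) (crep c.1 * (crep d.1).1) := by
    intro c d q hq hd
    have hcomm : Commute (crep c.1) (crep d.1).1 := by
      have := (crep d.1).2
      rw [Subgroup.mem_centralizer_singleton_iff] at this
      exact this.symm
    have h1 := hd.trans hcomm.orderOf_mul_dvd_mul_orderOf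
    rcases (Nat.Prime.dvd_mul hq).1 h1 with h2 | h2
    · obtain ⟨k, hk⟩ := c.2 _ (crep_mem c.1)
      rw [hk] at h2
      have := (Nat.prime_dvd_prime_iff_eq hq hr).1 (hq.dvd_of_dvd_pow h2)
      rw [this]
      exact Finset.mem_insert_self _ _
    · rw [Subgroup.orderOf_coe] at h2
      exact Finset.mem_insert_of_mem (d.2 _ (crep_mem d.1) q hq h2)
  let Φ : (Σ c : R, D c) → {e : ConjClasses G // ∀ x ∈ e.carrier, piElt (insert r σ) x} :=
    fun cd => ⟨ConjClasses.mk (crep cd.1.1 * (crep cd.2.1).1), fun y hy => by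
      rw [ConjClasses.mem_carrier_iff_mk_eq, ConjClasses.mk_eq_mk_iff_isConj] at hy
      exact piElt_of_isConj _ hy.symm (key cd.1 cd.2)⟩
  have hΦ : Function.Surjective Φ := by
    rintro ⟨e, he⟩
    obtain ⟨x, rfl⟩ := ConjClasses.exists_rep e
    have hx := he x ConjClasses.mem_carrier_mk
    obtain ⟨u, v, huv, hcomm, hu, hv1, hv2⟩ := exists_r_decomp r hr x
    let c : R := ⟨ConjClasses.mk u, fun y hy => by
      rw [ConjClasses.mem_carrier_iff_mk_eq, ConjClasses.mk_eq_mk_iff_isConj] at hy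
      rw [orderOf_eq_of_isConj hy]; exact hu⟩
    have hc : IsConj u (crep c.1) := by
      rw [← ConjClasses.mk_eq_mk_iff_isConj, crep_spec]
    obtain ⟨g, hg⟩ := isConj_iff.1 hc
    have hv' : g * v * g⁻¹ ∈ Subgroup.centralizer {crep c.1} := by
      rw [Subgroup.mem_centralizer_singleton_iff, ← hg]
      have := hcomm.eq
      calc g * v * g⁻¹ * (g * u * g⁻¹) = g * (v * u) * g⁻¹ := by group
        _ = g * (u * v) * g⁻¹ := by rw [this]
        _ = _ := by group
    have hvσ : piElt σ (⟨g * v * g⁻¹, hv'⟩ : Subgroup.centralizer {crep c.1}) := by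
      intro q hq hd
      rw [← Subgroup.orderOf_coe] at hd
      change q ∣ orderOf (g * v * g⁻¹) at hd
      rw [orderOf_conj_eq] at hd
      rcases Finset.mem_insert.1 (hx q hq (hd.trans hv1)) with h | h
      · exact absurd (h ▸ hd) hv2
      · exact h
    let d : D c := ⟨ConjClasses.mk ⟨g * v * g⁻¹, hv'⟩, fun y hy => by
      rw [ConjClasses.mem_carrier_iff_mk_eq, ConjClasses.mk_eq_mk_iff_isConj] at hy
      exact piElt_of_isConj _ hy.symm hvσ⟩
    have hd : IsConj (⟨g * v * g⁻¹, hv'⟩ : Subgroup.centralizer {crep c.1}) (crep d.1) := by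
      rw [← ConjClasses.mk_eq_mk_iff_isConj, crep_spec]
    obtain ⟨h, hh⟩ := isConj_iff.1 hd
    refine ⟨⟨c, d⟩, ?_⟩
    apply Subtype.ext
    change ConjClasses.mk (crep c.1 * (crep d.1).1) = ConjClasses.mk x
    rw [ConjClasses.mk_eq_mk_iff_isConj]
    apply IsConj.symm
    rw [isConj_iff]
    refine ⟨(h : G) * g, ?_⟩
    have hh' : (h : G) * (g * v * g⁻¹) * (h : G)⁻¹ = (crep d.1).1 := by
      simpa using congrArg Subtype.val hh
    have hhc : (h : G) * crep c.1 = crep c.1 * h := by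
      have := h.2
      rw [Subgroup.mem_centralizer_singleton_iff] at this
      exact this
    rw [← hh', ← huv]
    calc (h : G) * g * (u * v) * ((h : G) * g)⁻¹
        = (h : G) * (g * u * g⁻¹) * (g * v * g⁻¹) * (h : G)⁻¹ := by group
      _ = ((h : G) * crep c.1) * (g * v * g⁻¹) * (h : G)⁻¹ := by rw [hg]
      _ = crep c.1 * ((h : G) * (g * v * g⁻¹) * (h : G)⁻¹) := by rw [hhc]; group
  haveI : Fintype R := Fintype.ofFinite R
  calc kOf G (piElt (insert r σ)) ≤ Nat.card (Σ c : R, D c) := Nat.card_le_card_of_surjective Φ hΦ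
    _ = ∑ c : R, Nat.card (D c) := Nat.card_sigma
    _ ≤ ∑ _c : R, M := Finset.sum_le_sum (fun c _ => hM _)
    _ = kOf G (fun x => ∃ k : ℕ, orderOf x = r ^ k) * M := by
      rw [Finset.sum_const, Finset.card_univ, smul_eq_mul, ← Nat.card_eq_fintype_card]
      rfl

lemma piPart_le_of_dvd (σ : Finset ℕ) (hσ : ∀ r ∈ σ, r.Prime) {a b : ℕ} (ha : a ≠ 0) (hb : b ≠ 0)
    (h : a ∣ b) : piPart σ a ≤ piPart σ b := by
  apply Finset.prod_le_prod'
  intro r hr
  exact Nat.pow_le_pow_right (hσ r hr).pos ((Nat.factorization_le_iff_dvd ha hb).2 h r)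

lemma kr_le (G : Type*) [Group G] [Finite G] (r : ℕ) (hr : r.Prime) :
    kOf G (fun x => ∃ k : ℕ, orderOf x = r ^ k) ≤ r ^ (Nat.card G).factorization r := by
  haveI : Fact r.Prime := ⟨hr⟩
  obtain ⟨P⟩ := (inferInstance : Nonempty (Sylow r G))
  rw [← Sylow.card_eq_multiplicity P]
  exact kp_le_card P

lemma kOf_le_piPart (σ : Finset ℕ) : (∀ r ∈ σ, r.Prime) →
    ∀ (G : Type*) [Group G] [Finite G], kOf G (piElt σ) ≤ piPart σ (Nat.card G) := by
  classical
  induction σ using Finset.induction_on with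
  | empty =>
    intro _ G _ _
    have : Subsingleton {c : ConjClasses G // ∀ x ∈ c.carrier, piElt (∅ : Finset ℕ) x} := by
      constructor
      have h1 : ∀ c : {c : ConjClasses G // ∀ x ∈ c.carrier, piElt (∅ : Finset ℕ) x},
          c.1 = ConjClasses.mk 1 := by
        intro c
        have h2 := c.2 _ (crep_mem c.1)
        have h3 : orderOf (crep c.1) = 1 := by
          by_contra hne
          obtain ⟨q, hq, hd⟩ := Nat.exists_prime_and_dvd hne
          exact absurd (h2 q hq hd) (Finset.notMem_empty q)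
        rw [← crep_spec c.1, orderOf_eq_one_iff.1 h3]
      intro a b
      exact Subtype.ext ((h1 a).trans (h1 b).symm)
    have h4 : kOf G (piElt (∅ : Finset ℕ)) ≤ 1 := Finite.card_le_one_iff_subsingleton.2 this
    simpa [piPart] using h4
  | insert r σ hr ih =>
    intro hprime G _ _
    have hσ : ∀ q ∈ σ, q.Prime := fun q hq => hprime q (Finset.mem_insert_of_mem hq)
    have hrp : r.Prime := hprime r (Finset.mem_insert_self _ _)
    have h1 := kOf_insert_le (G := G) r hrp σ (piPart σ (Nat.card G)) (fun u =>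
      (ih hσ (Subgroup.centralizer {u})).trans
        (piPart_le_of_dvd σ hσ Nat.card_pos.ne' Nat.card_pos.ne' (Subgroup.card_subgroup_dvd_card _)))
    refine h1.trans ?_
    have h5 : piPart (insert r σ) (Nat.card G) =
        r ^ (Nat.card G).factorization r * piPart σ (Nat.card G) := Finset.prod_insert hr
    rw [h5]
    exact Nat.mul_le_mul_right _ (kr_le G r hrp)

/-- the key inequality -/
lemma kOf_le_kr_mul (G : Type*) [Group G] [Finite G] (π : Finset ℕ) (hπ : ∀ r ∈ π, r.Prime) (r : ℕ)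
    (hr : r ∈ π) :
    kOf G (piElt π) ≤ kOf G (fun x => ∃ k : ℕ, orderOf x = r ^ k) * piPart (π.erase r) (Nat.card G) := by
  classical
  have hσ : ∀ q ∈ π.erase r, q.Prime := fun q hq => hπ q (Finset.mem_of_mem_erase hq)
  have h1 := kOf_insert_le (G := G) r (hπ r hr) (π.erase r) (piPart (π.erase r) (Nat.card G)) (fun u =>
      (kOf_le_piPart _ hσ (Subgroup.centralizer {u})).trans
        (piPart_le_of_dvd _ hσ Nat.card_pos.ne' Nat.card_pos.ne' (Subgroup.card_subgroup_dvd_card _)))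
  rwa [Finset.insert_erase hr] at h1

lemma piPart_eq_mul (π : Finset ℕ) (r : ℕ) (hr : r ∈ π) (n : ℕ) :
    piPart π n = r ^ n.factorization r * piPart (π.erase r) n := by
  classical
  exact (Finset.mul_prod_erase π (fun r => r ^ n.factorization r) hr).symm

end Cfsg.Agent.Lib.Helper21
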