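import Mathlib
import Cfsg.Agent.Lib.Helper21.FrobCount
import Cfsg.Agent.Lib.Helper21.KPi

set_option autoImplicit false

namespace Cfsg.Agent.Lib.Helper21

open Subgroup

/-- `π`-element predicate -/
def isPiElt {G : Type*} [Group G] (π : Set ℕ) (x : G) : Prop :=
  ∀ q : ℕ, q.Prime → q ∣ orderOf x → q ∈ π

lemma isPiElt_conj {G : Type*} [Group G] (π : Set ℕ) (g x : G) (h : isPiElt π x) :
    isPiElt π (g * x * g⁻¹) := by
  intro q hq hd
  rw [orderOf_conj_eq] at hd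
  exact h q hq hd

lemma card_fiber_class {G : Type*} [Group G] [Finite G] (C : ConjClasses G) :
    Nat.card {p : G × G // ConjClasses.mk p.1 = C ∧ Commute p.1 p.2} = Nat.card G := by
  classical
  obtain ⟨y0, rfl⟩ := ConjClasses.mk_surjective C
  haveI := Fintype.ofFinite {u : G // IsConj y0 u}
  have e : {p : G × G // ConjClasses.mk p.1 = ConjClasses.mk y0 ∧ Commute p.1 p.2} ≃
      Σ y : {u : G // IsConj y0 u}, centralizer ({y.1} : Set G) :=
    { toFun := fun p => ⟨⟨p.1.1, (ConjClasses.mk_eq_mk_iff_isConj.1 p.2.1).symm⟩, ⟨p.1.2, by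
          rw [mem_centralizer_singleton_iff]
          exact p.2.2.symm.eq⟩⟩
      invFun := fun s => ⟨(s.1.1, s.2.1), ConjClasses.mk_eq_mk_iff_isConj.2 s.1.2.symm, by
          have := s.2.2
          rw [mem_centralizer_singleton_iff] at this
          exact this.symm⟩
      left_inv := fun p => rfl
      right_inv := fun s => rfl }
  rw [Nat.card_congr e, Nat.card_sigma]
  have hc : ∀ y : {u : G // IsConj y0 u},
      Nat.card (centralizer ({y.1} : Set G)) = Nat.card (centralizer ({y0} : Set G)) := by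
    intro y
    have h1 := fc_card_conj_mul_card_centralizer y.1
    have h2 := fc_card_conj_mul_card_centralizer y0
    have h3 : Nat.card {u : G // IsConj y.1 u} = Nat.card {u : G // IsConj y0 u} :=
      Nat.card_congr (Equiv.subtypeEquivRight
        (fun u => ⟨fun h => y.2.trans h, fun h => y.2.symm.trans h⟩))
    rw [h3] at h1
    have hpos : 0 < Nat.card {u : G // IsConj y0 u} := by
      haveI : Nonempty {u : G // IsConj y0 u} := ⟨⟨y0, IsConj.refl _⟩⟩
      exact Nat.card_pos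
    exact Nat.eq_of_mul_eq_mul_left hpos (h1.trans h2.symm)
  rw [Finset.sum_congr rfl (fun y _ => hc y), Finset.sum_const, Finset.card_univ, smul_eq_mul,
    ← Nat.card_eq_fintype_card]
  exact fc_card_conj_mul_card_centralizer y0

lemma card_pairs_eq {G : Type*} [Group G] [Finite G] (Q : G → Prop)
    (hQ : ∀ g x : G, Q x → Q (g * x * g⁻¹)) :
    Nat.card {p : G × G // Q p.1 ∧ Commute p.1 p.2}
      = Nat.card {C : ConjClasses G // ∀ g : G, ConjClasses.mk g = C → Q g} * Nat.card G := by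
  classical
  haveI := Fintype.ofFinite {C : ConjClasses G // ∀ g : G, ConjClasses.mk g = C → Q g}
  have e : {p : G × G // Q p.1 ∧ Commute p.1 p.2} ≃
      Σ C : {C : ConjClasses G // ∀ g : G, ConjClasses.mk g = C → Q g},
        {p : G × G // ConjClasses.mk p.1 = C.1 ∧ Commute p.1 p.2} :=
    { toFun := fun p => ⟨⟨ConjClasses.mk p.1.1, fun g hg => by
          obtain ⟨c, hc⟩ := isConj_iff.1 (ConjClasses.mk_eq_mk_iff_isConj.1 hg.symm)
          rw [← hc]; exact hQ c _ p.2.1⟩, ⟨p.1, rfl, p.2.2⟩⟩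
      invFun := fun s => ⟨s.2.1, s.1.2 _ s.2.2.1, s.2.2.2⟩
      left_inv := fun p => rfl
      right_inv := by
        rintro ⟨⟨C, hC⟩, ⟨p, hp⟩⟩
        have hC' : ConjClasses.mk p.1 = C := hp.1
        subst hC'
        rfl }
  rw [Nat.card_congr e, Nat.card_sigma, Finset.sum_congr rfl (fun C _ => card_fiber_class C.1),
    Finset.sum_const, Finset.card_univ, smul_eq_mul, ← Nat.card_eq_fintype_card]

lemma card_coset_pairs_le {G : Type*} [Group G] [Finite G] (N : Subgroup G) [N.Normal]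
    (A : G → Prop) (d : G ⧸ N) :
    Nat.card {p : G × G // A p.1 ∧ (p.2 : G ⧸ N) = d ∧ Commute p.1 p.2}
      ≤ Nat.card {p : G × G // A p.1 ∧ p.2 ∈ N ∧ Commute p.1 p.2} := by
  classical
  let σ : G → G := fun y => if h : ∃ x : G, (x : G ⧸ N) = d ∧ Commute y x then h.choose else 1
  have hσ : ∀ y x : G, (x : G ⧸ N) = d → Commute y x →
      ((σ y : G) : G ⧸ N) = d ∧ Commute y (σ y) := by
    intro y x h1 h2
    have h : ∃ x : G, (x : G ⧸ N) = d ∧ Commute y x := ⟨x, h1, h2⟩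
    simp only [σ, dif_pos h]
    exact h.choose_spec
  apply Nat.card_le_card_of_injective
    (fun p : {p : G × G // A p.1 ∧ (p.2 : G ⧸ N) = d ∧ Commute p.1 p.2} =>
      (⟨(p.1.1, (σ p.1.1)⁻¹ * p.1.2), p.2.1, by
      obtain ⟨h1, h2⟩ := hσ p.1.1 p.1.2 p.2.2.1 p.2.2.2
      exact (QuotientGroup.eq).1 (h1.trans p.2.2.1.symm), by
      obtain ⟨h1, h2⟩ := hσ p.1.1 p.1.2 p.2.2.1 p.2.2.2
      exact h2.inv_right.mul_right p.2.2.2⟩ :
        {p : G × G // A p.1 ∧ p.2 ∈ N ∧ Commute p.1 p.2}))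
  rintro ⟨⟨y, x⟩, h⟩ ⟨⟨y', x'⟩, h'⟩ heq
  simp only [Subtype.mk.injEq, Prod.mk.injEq] at heq
  obtain ⟨rfl, h2⟩ := heq
  have := mul_left_cancel h2
  subst this; rfl

lemma exists_pi_split (π : Set ℕ) (n : ℕ) (hn : n ≠ 0) :
    ∃ m m' : ℕ, m * m' = n ∧ Nat.Coprime m m' ∧ (∀ q : ℕ, q.Prime → q ∣ m → q ∈ π) ∧
      (∀ q : ℕ, q.Prime → q ∣ m' → q ∉ π) := by
  classical
  revert hn
  refine induction_on_primes (motive := fun n => n ≠ 0 → ∃ m m' : ℕ, m * m' = n ∧ Nat.Coprime m m' ∧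
    (∀ q : ℕ, q.Prime → q ∣ m → q ∈ π) ∧ (∀ q : ℕ, q.Prime → q ∣ m' → q ∉ π)) ?_ ?_ ?_ n
  · intro h; exact absurd rfl h
  · intro _
    exact ⟨1, 1, rfl, Nat.coprime_one_left _, fun q hq h => absurd (Nat.dvd_one.1 h) hq.ne_one,
      fun q hq h => absurd (Nat.dvd_one.1 h) hq.ne_one⟩
  · intro p a hp ih hpa
    have ha : a ≠ 0 := fun h => hpa (by rw [h, mul_zero])
    obtain ⟨m, m', h1, h2, h3, h4⟩ := ih ha
    by_cases hpπ : p ∈ π
    · refine ⟨p * m, m', by rw [mul_assoc, h1], ?_, ?_, h4⟩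
      · apply Nat.Coprime.mul_left _ h2
        exact (Nat.Prime.coprime_iff_not_dvd hp).2 (fun h => h4 p hp h hpπ)
      · intro q hq hd
        rcases (Nat.Prime.dvd_mul hq).1 hd with h | h
        · rw [(Nat.prime_dvd_prime_iff_eq hq hp).1 h]; exact hpπ
        · exact h3 q hq h
    · refine ⟨m, p * m', by rw [mul_left_comm, h1], ?_, h3, ?_⟩
      · apply Nat.Coprime.mul_right _ h2
        exact ((Nat.Prime.coprime_iff_not_dvd hp).2 (fun h => hpπ (h3 p hp h))).symm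
      · intro q hq hd
        rcases (Nat.Prime.dvd_mul hq).1 hd with h | h
        · rw [(Nat.prime_dvd_prime_iff_eq hq hp).1 h]; exact hpπ
        · exact h4 q hq h

lemma exists_pi_exponents (G : Type*) [Group G] [Finite G] (π : Set ℕ) :
    ∃ e e' : ℕ, (∀ y : G, isPiElt π y → y ^ e = y) ∧ (∀ x : G, (x ^ e') ^ e = 1) ∧
      (∀ x : G, x ^ e * x ^ e' = x) ∧ (∀ x : G, isPiElt π (x ^ e)) := by
  obtain ⟨m, m', h1, h2, h3, h4⟩ := exists_pi_split π (Nat.card G) Nat.card_pos.ne'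
  obtain ⟨e, he1, he2⟩ := Nat.chineseRemainder h2 1 0
  obtain ⟨e', he1', he2'⟩ := Nat.chineseRemainder h2 0 1
  have hm'e : m' ∣ e := (Nat.modEq_zero_iff_dvd).1 he2
  have hme' : m ∣ e' := (Nat.modEq_zero_iff_dvd).1 he1'
  have hpow : ∀ (x : G) (k : ℕ), m * m' ∣ k → x ^ k = 1 := by
    intro x k hk
    rw [h1] at hk
    exact orderOf_dvd_iff_pow_eq_one.1 ((orderOf_dvd_natCard x).trans hk)
  refine ⟨e, e', ?_, ?_, ?_, ?_⟩
  · intro y hy
    have hd : orderOf y ∣ m := by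
      have hd1 : orderOf y ∣ m * m' := by rw [h1]; exact orderOf_dvd_natCard y
      have hcop : Nat.Coprime (orderOf y) m' := by
        apply Nat.coprime_of_dvd
        intro q hq hq1 hq2
        exact h4 q hq hq2 (hy q hq hq1)
      exact hcop.dvd_of_dvd_mul_right hd1
    have : y ^ e = y ^ 1 := pow_eq_pow_iff_modEq.2 (he1.of_dvd hd)
    rwa [pow_one] at this
  · intro x
    rw [← pow_mul]
    exact hpow x _ (mul_dvd_mul hme' hm'e)
  · intro x
    rw [← pow_add]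
    have hmod : e + e' ≡ 1 [MOD m * m'] := by
      apply (Nat.modEq_and_modEq_iff_modEq_mul h2).1
      exact ⟨by simpa using he1.add he1', by simpa using he2.add he2'⟩
    rw [h1] at hmod
    have : x ^ (e + e') = x ^ 1 := pow_eq_pow_iff_modEq.2 (hmod.of_dvd (orderOf_dvd_natCard x))
    rwa [pow_one] at this
  · intro x q hq hd
    have : (x ^ e) ^ m = 1 := by
      rw [← pow_mul]
      exact hpow x _ (by rw [mul_comm m m']; exact mul_dvd_mul hm'e dvd_rfl)
    exact h3 q hq (hd.trans (orderOf_dvd_of_pow_eq_one this))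

lemma card_swap_le {G : Type*} [Group G] [Finite G] (N : Subgroup G) [N.Normal] (π : Set ℕ)
    (c : G ⧸ N) :
    Nat.card {p : G × G // ((p.1 : G ⧸ N) = c ∧ isPiElt π p.1) ∧ p.2 ∈ N ∧ Commute p.1 p.2}
      ≤ Nat.card {p : G × G // (p.1 ∈ N ∧ isPiElt π p.1) ∧ (p.2 : G ⧸ N) = c ∧
          Commute p.1 p.2} := by
  obtain ⟨e, e', h1, h2, h3, h4⟩ := exists_pi_exponents G π
  apply Nat.card_le_card_of_injective
    (fun p : {p : G × G // ((p.1 : G ⧸ N) = c ∧ isPiElt π p.1) ∧ p.2 ∈ N ∧ Commute p.1 p.2} =>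
      (⟨(p.1.2 ^ e, p.1.1 * p.1.2 ^ e'), ⟨N.pow_mem p.2.2.1 e, h4 _⟩, by
      show ((p.1.1 * p.1.2 ^ e' : G) : G ⧸ N) = c
      rw [QuotientGroup.mk_mul, p.2.1.1, (QuotientGroup.eq_one_iff _).2 (N.pow_mem p.2.2.1 e'),
        mul_one], by
      have hc : Commute p.1.1 p.1.2 := p.2.2.2
      exact (hc.symm.pow_left e).mul_right ((Commute.refl p.1.2).pow_pow e e')⟩ :
      {p : G × G // (p.1 ∈ N ∧ isPiElt π p.1) ∧ (p.2 : G ⧸ N) = c ∧ Commute p.1 p.2}))
  rintro ⟨⟨y, n⟩, ⟨hy1, hy2⟩, hn, hc⟩ ⟨⟨y', n'⟩, ⟨hy1', hy2'⟩, hn', hc'⟩ heq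
  simp only [Subtype.mk.injEq, Prod.mk.injEq] at heq
  obtain ⟨ha, hb⟩ := heq
  have key : ∀ (y n : G), isPiElt π y → Commute y n → (y * n ^ e') ^ e = y := by
    intro y n hy hc
    rw [(hc.pow_right e').mul_pow, h1 y hy, h2, mul_one]
  have hy : y = y' := by
    rw [← key y n hy2 hc, ← key y' n' hy2' hc', hb]
  subst hy
  have hn2 : n ^ e' = n' ^ e' := mul_left_cancel hb
  have : n = n' := by rw [← h3 n, ← h3 n', ha, hn2]
  subst this
  rfl

lemma isPiElt_map {G H : Type*} [Group G] [Group H] (π : Set ℕ) (f : G →* H) (x : G)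
    (h : isPiElt π x) : isPiElt π (f x) :=
  fun q hq hd => h q hq (hd.trans (orderOf_map_dvd f x))

lemma card_pairs_le {G : Type*} [Group G] [Finite G] (N : Subgroup G) [N.Normal] (π : Set ℕ) :
    Nat.card {p : G × G // isPiElt π p.1 ∧ Commute p.1 p.2} ≤
      Nat.card {p : (G ⧸ N) × (G ⧸ N) // isPiElt π p.1 ∧ Commute p.1 p.2} *
      Nat.card {p : N × N // isPiElt π p.1 ∧ Commute p.1 p.2} := by
  classical
  haveI := Fintype.ofFinite {p : (G ⧸ N) × (G ⧸ N) // isPiElt π p.1 ∧ Commute p.1 p.2}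
  have e : {p : G × G // isPiElt π p.1 ∧ Commute p.1 p.2} ≃
      Σ b : {p : (G ⧸ N) × (G ⧸ N) // isPiElt π p.1 ∧ Commute p.1 p.2},
        {p : G × G // ((p.1 : G ⧸ N) = b.1.1 ∧ isPiElt π p.1) ∧ (p.2 : G ⧸ N) = b.1.2 ∧
          Commute p.1 p.2} :=
    { toFun := fun p => ⟨⟨((p.1.1 : G ⧸ N), (p.1.2 : G ⧸ N)),
          isPiElt_map π (QuotientGroup.mk' N) _ p.2.1, p.2.2.map (QuotientGroup.mk' N)⟩,
          ⟨p.1, ⟨rfl, p.2.1⟩, rfl, p.2.2⟩⟩
      invFun := fun s => ⟨s.2.1, s.2.2.1.2, s.2.2.2.2⟩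
      left_inv := fun p => rfl
      right_inv := by
        rintro ⟨⟨⟨c, d⟩, hb⟩, ⟨p, hp⟩⟩
        have h1 : (p.1 : G ⧸ N) = c := hp.1.1
        have h3 : (p.2 : G ⧸ N) = d := hp.2.1
        subst h1 h3
        rfl }
  rw [Nat.card_congr e, Nat.card_sigma]
  have hF : ∀ b : {p : (G ⧸ N) × (G ⧸ N) // isPiElt π p.1 ∧ Commute p.1 p.2},
      Nat.card {p : G × G // ((p.1 : G ⧸ N) = b.1.1 ∧ isPiElt π p.1) ∧ (p.2 : G ⧸ N) = b.1.2 ∧
          Commute p.1 p.2} ≤ Nat.card {p : N × N // isPiElt π p.1 ∧ Commute p.1 p.2} := by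
    intro b
    calc Nat.card {p : G × G // ((p.1 : G ⧸ N) = b.1.1 ∧ isPiElt π p.1) ∧ (p.2 : G ⧸ N) = b.1.2 ∧
          Commute p.1 p.2}
        ≤ Nat.card {p : G × G // ((p.1 : G ⧸ N) = b.1.1 ∧ isPiElt π p.1) ∧ p.2 ∈ N ∧
          Commute p.1 p.2} :=
          card_coset_pairs_le N (fun y => (y : G ⧸ N) = b.1.1 ∧ isPiElt π y) b.1.2
      _ ≤ Nat.card {p : G × G // (p.1 ∈ N ∧ isPiElt π p.1) ∧ (p.2 : G ⧸ N) = b.1.1 ∧
          Commute p.1 p.2} := card_swap_le N π b.1.1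
      _ ≤ Nat.card {p : G × G // (p.1 ∈ N ∧ isPiElt π p.1) ∧ p.2 ∈ N ∧ Commute p.1 p.2} :=
          card_coset_pairs_le N (fun y => y ∈ N ∧ isPiElt π y) b.1.1
      _ = Nat.card {p : N × N // isPiElt π p.1 ∧ Commute p.1 p.2} := Nat.card_congr
          { toFun := fun p => ⟨(⟨p.1.1, p.2.1.1⟩, ⟨p.1.2, p.2.2.1⟩), by
              intro q hq hd
              rw [← Subgroup.orderOf_coe] at hd
              exact p.2.1.2 q hq hd, Subtype.ext p.2.2.2.eq⟩
            invFun := fun p => ⟨(p.1.1.1, p.1.2.1), ⟨p.1.1.2, by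
              intro q hq hd
              apply p.2.1 q hq
              rw [← Subgroup.orderOf_coe]
              exact hd⟩, p.1.2.2, congrArg Subtype.val p.2.2.eq⟩
            left_inv := fun p => rfl
            right_inv := fun p => rfl }
  calc _ ≤ ∑ _b : {p : (G ⧸ N) × (G ⧸ N) // isPiElt π p.1 ∧ Commute p.1 p.2},
        Nat.card {p : N × N // isPiElt π p.1 ∧ Commute p.1 p.2} :=
        Finset.sum_le_sum (fun b _ => hF b)
    _ = _ := by rw [Finset.sum_const, Finset.card_univ, smul_eq_mul, ← Nat.card_eq_fintype_card]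

theorem kpi_le_mul {G : Type*} [Group G] [Finite G] (N : Subgroup G) [N.Normal] (π : Set ℕ) :
    Nat.card {C : ConjClasses G // ∀ g : G, ConjClasses.mk g = C → isPiElt π g} ≤
      Nat.card {C : ConjClasses N // ∀ g : N, ConjClasses.mk g = C → isPiElt π g} *
      Nat.card {C : ConjClasses (G ⧸ N) // ∀ g : G ⧸ N, ConjClasses.mk g = C → isPiElt π g} := by
  have h := card_pairs_le N π
  rw [card_pairs_eq _ (isPiElt_conj π), card_pairs_eq _ (isPiElt_conj π),
    card_pairs_eq _ (isPiElt_conj π)] at h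
  have hcard : Nat.card G = Nat.card (G ⧸ N) * Nat.card N :=
    Subgroup.card_eq_card_quotient_mul_card_subgroup N
  have hpos : 0 < Nat.card G := Nat.card_pos
  apply Nat.le_of_mul_le_mul_right _ hpos
  calc _ ≤ _ := h
    _ = _ := by rw [hcard]; ring

end Cfsg.Agent.Lib.Helper21
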