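import Mathlib
import Cfsg.Agent.Lib.Helper21.CommMap

set_option autoImplicit false

namespace Cfsg.Agent.Lib.Helper21

lemma pg_mul_card_dvd {P : Type*} [Group P] [Finite P] {p : ℕ} [Fact p.Prime] (hP : IsPGroup p P)
    {H K : Subgroup P} (h : H < K) : p * Nat.card H ∣ Nat.card K := by
  have h1 := Subgroup.relIndex_mul_relIndex ⊥ H K bot_le h.le
  rw [Subgroup.relIndex_bot_left, Subgroup.relIndex_bot_left] at h1
  obtain ⟨n, hn⟩ := (hP.to_subgroup K).index (H.subgroupOf K)
  have hn' : H.relIndex K = p ^ n := hn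
  have hn0 : n ≠ 0 := by
    rintro rfl
    rw [pow_zero, Subgroup.relIndex_eq_one] at hn'
    exact h.not_ge hn'
  rw [← h1, hn', mul_comm]
  exact Nat.mul_dvd_mul_left _ (dvd_pow_self p hn0)

lemma comm_of_card_dvd_sq {Q : Type*} [Group Q] [Finite Q] (p : ℕ) [hp : Fact p.Prime]
    (h : Nat.card Q ∣ p ^ 2) : ∀ a b : Q, a * b = b * a := by
  obtain ⟨k, hk, hc⟩ := (Nat.dvd_prime_pow hp.out).1 h
  interval_cases k
  · rw [pow_zero] at hc
    haveI : Subsingleton Q := (Nat.card_eq_one_iff_unique.1 hc).1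
    intro a b
    exact Subsingleton.elim _ _
  · rw [pow_one] at hc
    haveI := isCyclic_of_prime_card hc
    obtain ⟨g, hg⟩ := IsCyclic.exists_generator (α := Q)
    intro a b
    obtain ⟨i, rfl⟩ := Subgroup.mem_zpowers_iff.1 (hg a)
    obtain ⟨j, rfl⟩ := Subgroup.mem_zpowers_iff.1 (hg b)
    rw [← zpow_add, ← zpow_add, add_comm]
  · exact IsPGroup.commutative_of_card_eq_prime_sq hc

lemma p4_exists_abelian {P : Type*} [Group P] [Finite P] (p : ℕ) [hp : Fact p.Prime]
    (hP : Nat.card P = p ^ 4) (hnc : ¬ ∀ a b : P, a * b = b * a) :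
    ∃ A : Subgroup P, (∀ a ∈ A, ∀ b ∈ A, a * b = b * a) ∧ Nat.card A = p ^ 3 := by
  classical
  have hPG : IsPGroup p P := IsPGroup.of_card hP
  have hZtop : Subgroup.center P ≠ ⊤ := by
    intro e
    apply hnc
    intro a b
    have : a ∈ Subgroup.center P := by rw [e]; exact Subgroup.mem_top a
    exact (Subgroup.mem_center_iff.1 this b).symm
  haveI : Nontrivial P := by
    by_contra h
    rw [not_nontrivial_iff_subsingleton] at h
    exact hnc (fun a b => Subsingleton.elim _ _)
  have hZbot : Subgroup.center P ≠ ⊥ := by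
    haveI := hPG.center_nontrivial
    exact (Subgroup.nontrivial_iff_ne_bot _).1 inferInstance
  haveI : Nontrivial (P ⧸ Subgroup.center P) := by
    rw [← Finite.one_lt_card_iff_nontrivial]
    have h1 : (Subgroup.center P).index ≠ 1 := fun h => hZtop (Subgroup.index_eq_one.1 h)
    have h0 : (Subgroup.center P).index ≠ 0 := Subgroup.index_ne_zero_of_finite
    have h2 : Nat.card (P ⧸ Subgroup.center P) = (Subgroup.center P).index := rfl
    omega
  have hQ : IsPGroup p (P ⧸ Subgroup.center P) := hPG.to_quotient _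
  haveI := hQ.center_nontrivial
  obtain ⟨y, hy1⟩ := exists_ne (1 : Subgroup.center (P ⧸ Subgroup.center P))
  obtain ⟨n, hn⟩ := QuotientGroup.mk_surjective (y : P ⧸ Subgroup.center P)
  have hnZ : n ∉ Subgroup.center P := by
    intro h
    apply hy1
    apply Subtype.ext
    rw [← hn]
    exact (QuotientGroup.eq_one_iff n).2 h
  have hcomm : ∀ g : P, g * n * g⁻¹ * n⁻¹ ∈ Subgroup.center P := by
    intro g
    rw [← QuotientGroup.eq_one_iff]
    have h1 := Subgroup.mem_center_iff.1 y.2 (QuotientGroup.mk g)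
    rw [← hn] at h1
    rw [QuotientGroup.mk_mul, QuotientGroup.mk_mul, QuotientGroup.mk_mul, QuotientGroup.mk_inv,
      QuotientGroup.mk_inv, h1]
    group
  obtain ⟨A, hAdef⟩ : ∃ A : Subgroup P, A = Subgroup.centralizer {n} := ⟨_, rfl⟩
  obtain ⟨W, hWdef⟩ : ∃ W : Subgroup P, W = Subgroup.center P ⊔ Subgroup.zpowers n := ⟨_, rfl⟩
  have hmemA : ∀ g : P, g ∈ A ↔ g * n = n * g := by
    intro g
    rw [hAdef, Subgroup.mem_centralizer_singleton_iff]
  have hZW : Subgroup.center P < W := by
    rw [hWdef]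
    refine lt_of_le_of_ne le_sup_left ?_
    intro e
    apply hnZ
    rw [e]
    exact (le_sup_right : Subgroup.zpowers n ≤ _) (Subgroup.mem_zpowers n)
  have hWA : W ≤ A := by
    rw [hWdef, hAdef]
    exact sup_le (Subgroup.center_le_centralizer _)
      (Subgroup.zpowers_le.2 (Subgroup.mem_centralizer_singleton_iff.2 rfl))
  have hAtop : A < ⊤ := by
    refine lt_top_iff_ne_top.2 ?_
    intro e
    apply hnZ
    rw [Subgroup.mem_center_iff]
    intro g
    exact (hmemA g).1 (by rw [e]; exact Subgroup.mem_top g)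
  have d0 := pg_mul_card_dvd hPG (bot_lt_iff_ne_bot.2 hZbot)
  rw [Subgroup.card_bot, mul_one] at d0
  have d1 := pg_mul_card_dvd hPG hZW
  have d2 := Subgroup.card_dvd_of_le hWA
  have d3 := pg_mul_card_dvd hPG hAtop
  rw [Subgroup.card_top, hP] at d3
  obtain ⟨j, hj, hAj⟩ := (Nat.dvd_prime_pow hp.out).1 ((Dvd.intro_left p rfl).trans d3)
  obtain ⟨k, hk, hZk⟩ := (Nat.dvd_prime_pow hp.out).1
    (hP ▸ Subgroup.card_subgroup_dvd_card (Subgroup.center P))
  have hp1 : 1 < p := hp.out.one_lt
  have hj3 : j + 1 ≤ 4 := by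
    rw [hAj, ← pow_succ'] at d3
    exact (Nat.pow_dvd_pow_iff_le_right hp1).1 d3
  have hk1 : 1 ≤ k := by
    rw [hZk] at d0
    have : p ^ 1 ∣ p ^ k := by rwa [pow_one]
    exact (Nat.pow_dvd_pow_iff_le_right hp1).1 this
  have hkj : k + 1 ≤ j := by
    have := d1.trans d2
    rw [hAj, hZk, ← pow_succ'] at this
    exact (Nat.pow_dvd_pow_iff_le_right hp1).1 this
  have hj3' : 3 ≤ j := by
    by_cases hk2 : 2 ≤ k
    · omega
    · have hk' : k = 1 := by omega
      rw [hk', pow_one] at hZk
      let ψ : P →* Subgroup.center P := MonoidHom.mk' (fun g => ⟨g * n * g⁻¹ * n⁻¹, hcomm g⟩) (by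
        intro g h
        apply Subtype.ext
        show (g * h) * n * (g * h)⁻¹ * n⁻¹ = (g * n * g⁻¹ * n⁻¹) * (h * n * h⁻¹ * n⁻¹)
        have hc := Subgroup.mem_center_iff.1 (hcomm h)
        calc (g * h) * n * (g * h)⁻¹ * n⁻¹ = g * (h * n * h⁻¹ * n⁻¹) * (n * g⁻¹ * n⁻¹) := by group
          _ = (h * n * h⁻¹ * n⁻¹) * g * (n * g⁻¹ * n⁻¹) := by rw [hc g]
          _ = (h * n * h⁻¹ * n⁻¹) * (g * n * g⁻¹ * n⁻¹) := by group
          _ = (g * n * g⁻¹ * n⁻¹) * (h * n * h⁻¹ * n⁻¹) := (hc _).symm)
      have hker : ψ.ker = A := by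
        ext g
        rw [MonoidHom.mem_ker, hmemA]
        constructor
        · intro h
          have h1 : g * n * g⁻¹ * n⁻¹ = 1 := congrArg Subtype.val h
          calc g * n = (g * n * g⁻¹ * n⁻¹) * (n * g) := by group
            _ = n * g := by rw [h1, one_mul]
        · intro h
          apply Subtype.ext
          show g * n * g⁻¹ * n⁻¹ = 1
          rw [h]
          group
      have hidx : A.index ∣ p := by
        rw [← hker, Subgroup.index_ker, ← hZk]
        exact Subgroup.card_subgroup_dvd_card _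
      have hidx1 : A.index ≠ 1 := fun h => hAtop.ne (Subgroup.index_eq_one.1 h)
      have hidxp : A.index = p := ((Nat.dvd_prime hp.out).1 hidx).resolve_left hidx1
      have hmul := A.card_mul_index
      rw [hidxp, hAj, hP, ← pow_succ] at hmul
      have := Nat.pow_right_injective hp1 hmul
      omega
  have hj' : j = 3 := by omega
  rw [hj'] at hAj
  refine ⟨A, ?_, hAj⟩
  -- `A` is abelian
  have hWc : W.subgroupOf A ≤ Subgroup.center ↥A := by
    intro w hw
    rw [Subgroup.mem_subgroupOf] at hw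
    rw [Subgroup.mem_center_iff]
    intro a
    apply Subtype.ext
    show (a : P) * w = w * a
    have h1 : W ≤ Subgroup.centralizer {(a : P)} := by
      rw [hWdef]
      refine sup_le (Subgroup.center_le_centralizer _) (Subgroup.zpowers_le.2 ?_)
      rw [Subgroup.mem_centralizer_singleton_iff]
      exact ((hmemA a).1 a.2).symm
    exact (Subgroup.mem_centralizer_singleton_iff.1 (h1 hw)).symm
  have e1 : Nat.card ↥(W.subgroupOf A) = Nat.card W :=
    Nat.card_congr (Subgroup.subgroupOfEquivOfLe hWA).toEquiv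
  have e2 : p ^ 2 ∣ Nat.card (Subgroup.center ↥A) := by
    have h1 : p * Nat.card (Subgroup.center P) ∣ Nat.card (Subgroup.center ↥A) := by
      refine d1.trans ?_
      rw [← e1]
      exact Subgroup.card_dvd_of_le hWc
    refine dvd_trans ?_ h1
    rw [pow_two]
    exact Nat.mul_dvd_mul_left p d0
  have e3 := (Subgroup.center ↥A).card_mul_index
  rw [hAj] at e3
  have e4 : (Subgroup.center ↥A).index ∣ p := by
    obtain ⟨c, hc⟩ := e2
    rw [hc] at e3
    have h1 : p ^ 2 * (c * (Subgroup.center ↥A).index) = p ^ 2 * p := by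
      rw [← mul_assoc, e3]; ring
    have h2 := Nat.eq_of_mul_eq_mul_left (pow_pos hp.out.pos 2) h1
    exact Dvd.intro_left c h2
  have e5 : ∀ a b : ↥A ⧸ Subgroup.center ↥A, a * b = b * a :=
    comm_of_card_dvd_sq p (e4.trans (Dvd.intro_left p (pow_two p).symm))
  have hcyc : IsCyclic (↥A ⧸ Subgroup.center ↥A) := by
    rcases (Nat.dvd_prime hp.out).1 e4 with h | h
    · haveI : Subsingleton (↥A ⧸ Subgroup.center ↥A) := (Nat.card_eq_one_iff_unique.1 h).1
      exact isCyclic_of_subsingleton
    · exact isCyclic_of_prime_card h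
  intro a ha b hb
  have := commutative_of_cyclic_center_quotient (QuotientGroup.mk' (Subgroup.center ↥A))
    (by rw [QuotientGroup.ker_mk']) (⟨a, ha⟩ : ↥A) ⟨b, hb⟩
  exact congrArg Subtype.val this

lemma p4_card {P : Type*} [Group P] [Finite P] (p : ℕ) [hp : Fact p.Prime]
    (hP : Nat.card P = p ^ 4) (hnc : ¬ ∀ a b : P, a * b = b * a) :
    Nat.card (commutator P) * Nat.card (Subgroup.center P) = p ^ 3 := by
  classical
  have hPG : IsPGroup p P := IsPGroup.of_card hP
  obtain ⟨A, hA, hAc⟩ := p4_exists_abelian p hP hnc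
  have hidx : A.index = p := by
    have h := A.card_mul_index
    rw [hAc, hP] at h
    have h1 : p ^ 3 * A.index = p ^ 3 * p := by rw [h]; ring
    exact Nat.eq_of_mul_eq_mul_left (pow_pos hp.out.pos 3) h1
  haveI hAn : A.Normal := by
    apply Subgroup.normal_of_index_eq_minFac_card
    rw [hidx, hP, Nat.Prime.pow_minFac hp.out (by norm_num)]
  have hgen : ∀ x : P, x ∉ A → A ⊔ Subgroup.zpowers x = ⊤ := by
    intro x hx
    have hlt : A < A ⊔ Subgroup.zpowers x := by
      refine lt_of_le_of_ne le_sup_left ?_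
      intro e
      apply hx
      rw [e]
      exact (le_sup_right : Subgroup.zpowers x ≤ _) (Subgroup.mem_zpowers x)
    have h1 := pg_mul_card_dvd hPG hlt
    rw [hAc, ← pow_succ'] at h1
    apply Subgroup.eq_top_of_card_eq
    rw [hP]
    exact Nat.dvd_antisymm (hP ▸ Subgroup.card_subgroup_dvd_card _) h1
  have hcen : ∀ x : P, A ⊔ Subgroup.zpowers x = ⊤ → ∀ a ∈ A, a * x = x * a →
      a ∈ Subgroup.center P := by
    intro x hx a ha hax
    have h1 : A ⊔ Subgroup.zpowers x ≤ Subgroup.centralizer {a} := by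
      refine sup_le ?_ (Subgroup.zpowers_le.2 ?_)
      · intro b hb
        rw [Subgroup.mem_centralizer_singleton_iff]
        exact hA b hb a ha
      · rw [Subgroup.mem_centralizer_singleton_iff]
        exact hax.symm
    rw [Subgroup.mem_center_iff]
    intro g
    have : g ∈ Subgroup.centralizer {a} := h1 (by rw [hx]; exact Subgroup.mem_top g)
    exact Subgroup.mem_centralizer_singleton_iff.1 this
  have hZA : Subgroup.center P ≤ A := by
    intro z hz
    by_contra hzA
    apply hnc
    have h1 : A ≤ Subgroup.center P := fun a ha =>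
      hcen z (hgen z hzA) a ha (Subgroup.mem_center_iff.1 hz a)
    have h2 : (⊤ : Subgroup P) ≤ Subgroup.center P := by
      rw [← hgen z hzA]
      exact sup_le h1 (Subgroup.zpowers_le.2 hz)
    intro a b
    exact (Subgroup.mem_center_iff.1 (h2 (Subgroup.mem_top a)) b).symm
  obtain ⟨x, hx⟩ : ∃ x : P, x ∉ A := by
    by_contra hcon
    push Not at hcon
    have : A = ⊤ := (Subgroup.eq_top_iff' A).2 hcon
    rw [this, Subgroup.index_top] at hidx
    exact hp.out.one_lt.ne hidx
  have hinf : A ⊓ Subgroup.centralizer ({x} : Set P) = Subgroup.center P := by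
    apply le_antisymm
    · intro a ha
      obtain ⟨h1, h2⟩ := Subgroup.mem_inf.1 ha
      exact hcen x (hgen x hx) a h1 (Subgroup.mem_centralizer_singleton_iff.1 h2)
    · exact le_inf hZA (Subgroup.center_le_centralizer _)
  have := card_commutator_mul_card_centralizer A hA x (hgen x hx)
  rw [hinf, hAc] at this
  exact this

end Cfsg.Agent.Lib.Helper21
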