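import Mathlib
import Cfsg.Prelude.Def_KGroupFacts

set_option autoImplicit false

namespace Cfsg.Agent.Lib.Helper21

lemma commutator_le_ker_of_comm {G D : Type*} [Group G] [Group D] (hcomm : ∀ a b : D, a * b = b * a)
    (φ : G →* D) : commutator G ≤ φ.ker := by
  rw [commutator_def, Subgroup.commutator_le]
  intro a _ b _
  rw [MonoidHom.mem_ker, map_commutatorElement, commutatorElement_def, hcomm (φ a) (φ b)]
  group

lemma exists_mem_commutator_of_surjective {X : Type*} {Y : Type*} [Group X] [Group Y] (f : X →* Y)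
    (hs : Function.Surjective f) (y : Y) (hy : y ∈ commutator Y) :
    ∃ x : X, x ∈ commutator X ∧ f x = y := by
  have h1 : (commutator X).map f = commutator Y := by
    rw [commutator_def, Subgroup.map_commutator, ← MonoidHom.range_eq_map,
      MonoidHom.range_eq_top.2 hs, commutator_def]
  rw [← h1] at hy
  obtain ⟨x, hx, rfl⟩ := hy
  exact ⟨x, hx, rfl⟩

variable {Q Γ Δ : Type*} [Group Q] [Group Γ] [Group Δ]

/-- The fibre product of two extensions. -/
def pullback (σ : Γ →* Q) (τ : Δ →* Q) : Subgroup (Γ × Δ) :=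
  (σ.comp (MonoidHom.fst Γ Δ)).eqLocus (τ.comp (MonoidHom.snd Γ Δ))

lemma pullback_spec (σ : Γ →* Q) (τ : Δ →* Q) (p : pullback σ τ) : σ p.1.1 = τ p.1.2 := p.2

lemma pullback_surj (σ : Γ →* Q) (hσ : Cfsg.IsStemExtension σ) (τ : Δ →* Q)
    (hτ : Cfsg.IsStemExtension τ)
    (htriv : ∀ p : pullback σ τ, p ∈ commutator (pullback σ τ) → p.1.1 = 1 → p = 1) :
    ∃ π : σ.ker →* τ.ker, Function.Surjective π := by
  classical
  set P := pullback σ τ with hPdef
  have hP : ∀ p : P, σ p.1.1 = τ p.1.2 := fun p => p.2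
  let ξ : P →* Γ := (MonoidHom.fst Γ Δ).comp P.subtype
  let η : P →* Δ := (MonoidHom.snd Γ Δ).comp P.subtype
  have hξs : Function.Surjective ξ := by
    intro g
    obtain ⟨d, hd⟩ := hτ.1 (σ g)
    exact ⟨⟨(g, d), hd.symm⟩, rfl⟩
  have hηs : Function.Surjective η := by
    intro d
    obtain ⟨g, hg⟩ := hσ.1 (τ d)
    exact ⟨⟨(g, d), hg⟩, rfl⟩
  have huniq : ∀ p q : P, p ∈ commutator P → q ∈ commutator P → ξ p = ξ q → p = q := by
    intro p q hp hq h
    have := htriv (p * q⁻¹) (mul_mem hp (inv_mem hq)) (by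
      change ξ (p * q⁻¹) = 1
      rw [map_mul, map_inv, h]; simp)
    exact mul_inv_eq_one.1 this
  have hex : ∀ k : σ.ker, ∃ w : P, w ∈ commutator P ∧ ξ w = k :=
    fun k => exists_mem_commutator_of_surjective ξ hξs k (hσ.2.2 k.2)
  choose w hw1 hw2 using hex
  have hση : ∀ p : P, τ (η p) = σ (ξ p) := fun p => (hP p).symm
  let π : σ.ker →* τ.ker :=
    { toFun := fun k => ⟨η (w k), by rw [MonoidHom.mem_ker, hση, hw2]; exact k.2⟩
      map_one' := by
        apply Subtype.ext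
        have : w 1 = 1 := huniq _ _ (hw1 1) (one_mem _) (by rw [hw2]; simp)
        simp [this]
      map_mul' := by
        intro a b
        apply Subtype.ext
        have : w (a * b) = w a * w b :=
          huniq _ _ (hw1 _) (mul_mem (hw1 a) (hw1 b)) (by rw [hw2, map_mul, hw2, hw2]; rfl)
        simp [this] }
  refine ⟨π, ?_⟩
  rintro ⟨l, hl⟩
  obtain ⟨p, hp1, hp2⟩ := exists_mem_commutator_of_surjective η hηs l (hτ.2.2 hl)
  have hk : ξ p ∈ σ.ker := by rw [MonoidHom.mem_ker, ← hση, hp2]; exact hl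
  refine ⟨⟨ξ p, hk⟩, ?_⟩
  apply Subtype.ext
  have : w ⟨ξ p, hk⟩ = p := huniq _ _ (hw1 _) hp1 (hw2 _)
  change η (w ⟨ξ p, hk⟩) = l
  rw [this, hp2]

end Cfsg.Agent.Lib.Helper21
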