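import Mathlib
import Cfsg.Agent.S4303
import Cfsg.Agent.S4343

set_option autoImplicit false

namespace Cfsg.Agent.Lib.Helper21

open Subgroup

universe u

section simple

variable {G : Type*} [Group G] [Finite G] {p : ℕ} [Fact p.Prime]

/-- In a simple group with more than one Sylow `p`-subgroup the action on them is faithful. -/
lemma sn_faithful [IsSimpleGroup G] (hn : Nat.card (Sylow p G) ≠ 1) (g : G)
    (hg : ∀ Q : Sylow p G, g • Q = Q) : g = 1 := by
  have hK := IsSimpleGroup.eq_bot_or_eq_top_of_normal
    (MulAction.toPermHom G (Sylow p G)).ker inferInstance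
  rcases hK with h | h
  · have h1 : g ∈ (MulAction.toPermHom G (Sylow p G)).ker := by
      rw [MonoidHom.mem_ker]
      ext1 Q
      simp [hg Q]
    rw [h] at h1
    exact Subgroup.mem_bot.mp h1
  · exfalso
    apply hn
    rw [Nat.card_eq_one_iff_unique]
    refine ⟨⟨fun P Q => ?_⟩, inferInstance⟩
    obtain ⟨x, hx⟩ := MulAction.exists_smul_eq G P Q
    have h1 : x ∈ (MulAction.toPermHom G (Sylow p G)).ker := h ▸ Subgroup.mem_top x
    have h2 : x • P = P := by
      have h3 := congrArg (fun f => f P) (MonoidHom.mem_ker.mp h1)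
      simpa using h3
    rw [← hx, h2]

lemma sn_fixed_count (P : Sylow p G) (k : G) (hk : k ∈ centralizer ((P : Subgroup G) : Set G)) :
    Nat.card {Q : Sylow p G // k • Q = Q} ≡ 1 [MOD p] := by
  classical
  have hkP : k • P = P :=
    Sylow.smul_eq_iff_mem_normalizer.mpr (Subgroup.centralizer_le_normalizer _ hk)
  let S : SubMulAction (P : Subgroup G) (Sylow p G) :=
    { carrier := {Q | k • Q = Q}
      smul_mem' := by
        intro x Q hQ
        show k • (x • Q) = x • Q
        have hc : (x : G) * k = k * (x : G) := mem_centralizer_iff.mp hk x x.2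
        rw [Subgroup.smul_def, smul_smul, ← hc, ← smul_smul, hQ] }
  have h1 := P.2.card_modEq_card_fixedPoints (α := S)
  have h2 : Nat.card (MulAction.fixedPoints (P : Subgroup G) S) = 1 := by
    rw [Nat.card_eq_one_iff_unique]
    constructor
    · constructor
      intro a b
      have key : ∀ c : MulAction.fixedPoints (P : Subgroup G) S, (c.1.1 : Sylow p G) = P := by
        intro c
        have hc : (c.1.1 : Sylow p G) ∈ MulAction.fixedPoints (P : Subgroup G) (Sylow p G) := by
          intro x
          have := c.2 x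
          exact congrArg Subtype.val this
        rw [P.2.sylow_mem_fixedPoints_iff] at hc
        exact (Sylow.ext (P.3 c.1.1.2 hc))
      apply Subtype.ext
      apply Subtype.ext
      rw [key a, key b]
    · refine ⟨⟨⟨P, hkP⟩, ?_⟩⟩
      intro x
      apply Subtype.ext
      show (x : G) • P = P
      exact Sylow.smul_eq_iff_mem_normalizer.mpr (Subgroup.le_normalizer x.2)
  rw [h2] at h1
  exact h1

lemma sn_fixed_count2 (k : G) (r : ℕ) [Fact r.Prime] (hk : orderOf k = r) :
    Nat.card (Sylow p G) ≡ Nat.card {Q : Sylow p G // k • Q = Q} [MOD r] := by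
  have hz : IsPGroup r (zpowers k) :=
    IsPGroup.of_card (n := 1) (by rw [Nat.card_zpowers, hk, pow_one])
  have h1 := hz.card_modEq_card_fixedPoints (α := Sylow p G)
  have h2 : Nat.card (MulAction.fixedPoints (zpowers k) (Sylow p G)) =
      Nat.card {Q : Sylow p G // k • Q = Q} := by
    apply Nat.card_congr
    apply Equiv.subtypeEquivRight
    intro Q
    constructor
    · intro h
      exact h ⟨k, mem_zpowers k⟩
    · intro h y
      have h3 : zpowers k ≤ MulAction.stabilizer G Q := by
        rw [zpowers_le]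
        exact h
      exact h3 y.2
  rwa [h2] at h1

lemma sn_sign [IsSimpleGroup G] (hn : Nat.card (Sylow p G) = 1 + 2 * p) (hp : Odd p)
    (hbig : 2 < Nat.card G) (k : G) (hk2 : orderOf k = 2)
    (hf : Nat.card {Q : Sylow p G // k • Q = Q} = 1) : False := by
  classical
  have := Fintype.ofFinite (Sylow p G)
  have hpp : p.Prime := Fact.out
  have hinj : Function.Injective (MulAction.toPermHom G (Sylow p G)) := by
    rw [injective_iff_map_eq_one]
    intro g hg
    apply sn_faithful (p := p) (by rw [hn]; have := hpp.pos; omega) g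
    intro Q
    have h3 := congrArg (fun f => f Q) hg
    simpa using h3
  set σ := MulAction.toPermHom G (Sylow p G) k with hσ
  have ho : orderOf σ = 2 := by rw [hσ, orderOf_injective _ hinj, hk2]
  obtain ⟨n, hn2⟩ := Equiv.Perm.cycleType_prime_order (σ := σ) (by rw [ho]; exact Nat.prime_two)
  rw [ho] at hn2
  have hrep : σ.cycleType = Multiset.replicate (Multiset.card σ.cycleType) 2 := by
    rw [hn2, Multiset.card_replicate]
  have hs := Equiv.Perm.sign_of_cycleType_eq_replicate (by norm_num : 0 < 2) hrep
  have hfix : Fintype.card (Function.fixedPoints σ) = 1 := by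
    rw [← Nat.card_eq_fintype_card, ← hf]
    apply Nat.card_congr
    apply Equiv.subtypeEquivRight
    intro Q
    exact Iff.rfl
  have hcard : Fintype.card (Sylow p G) = 1 + 2 * p := by
    rw [← Nat.card_eq_fintype_card, hn]
  rw [hfix, hcard, if_neg (by decide)] at hs
  have h4 : (1 + 2 * p - 1) / 2 = p := by omega
  rw [h4, hp.neg_one_pow] at hs
  -- the sign homomorphism
  have hK := IsSimpleGroup.eq_bot_or_eq_top_of_normal
    ((Equiv.Perm.sign).comp (MulAction.toPermHom G (Sylow p G))).ker inferInstance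
  rcases hK with h | h
  · have hinj2 : Function.Injective ((Equiv.Perm.sign).comp (MulAction.toPermHom G (Sylow p G))) :=
      (MonoidHom.ker_eq_bot_iff _).mp h
    have h5 := Nat.card_le_card_of_injective _ hinj2
    rw [Nat.card_eq_fintype_card (α := ℤˣ), Fintype.card_units_int] at h5
    omega
  · have h5 : k ∈ ((Equiv.Perm.sign).comp (MulAction.toPermHom G (Sylow p G))).ker :=
      h ▸ Subgroup.mem_top k
    rw [MonoidHom.mem_ker, MonoidHom.comp_apply, ← hσ, hs] at h5
    exact absurd h5 (by decide)

/-- `C_G(P) = P`. -/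
lemma sn_centralizer [IsSimpleGroup G] (hn : Nat.card (Sylow p G) = 1 + 2 * p) (hp : 2 < p)
    (P : Sylow p G) (hP : Nat.card P = p) : centralizer ((P : Subgroup G) : Set G) = P := by
  have hpp : p.Prime := Fact.out
  have hodd : Odd p := hpp.odd_of_ne_two (by omega)
  have hbig : 2 < Nat.card G := by
    have := Subgroup.card_le_card_group (P : Subgroup G)
    omega
  have hPC : (P : Subgroup G) ≤ centralizer ((P : Subgroup G) : Set G) := by
    have : IsCyclic P := isCyclic_of_prime_card hP
    exact (P : Subgroup G).le_centralizer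
  have hC : IsPGroup p (centralizer ((P : Subgroup G) : Set G)) := by
    apply IsPGroup.of_card
      (n := (Nat.card (centralizer ((P : Subgroup G) : Set G))).primeFactorsList.length)
    apply Nat.eq_prime_pow_of_unique_prime_dvd Nat.card_pos.ne'
    intro r hr hrd
    by_contra hne
    have := Fact.mk hr
    obtain ⟨k, hk⟩ := exists_prime_orderOf_dvd_card' r hrd
    have hk' : orderOf (k : G) = r := by rw [Subgroup.orderOf_coe, hk]
    have h1 := sn_fixed_count P (k : G) k.2
    have h2 := sn_fixed_count2 (p := p) (k : G) r hk'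
    have hle : Nat.card {Q : Sylow p G // (k : G) • Q = Q} ≤ Nat.card (Sylow p G) :=
      Finite.card_subtype_le _
    rw [hn] at h2 hle
    set f := Nat.card {Q : Sylow p G // (k : G) • Q = Q} with hf
    have h3 : f % p = 1 := by
      have : f % p = 1 % p := h1
      rw [this, Nat.mod_eq_of_lt (by omega)]
    have h4 := Nat.div_add_mod f p
    rw [h3] at h4
    generalize f / p = c at h4
    have h5 : c ≤ 2 := by
      have : p * c ≤ p * 2 := by omega
      exact Nat.le_of_mul_le_mul_left this hpp.pos
    have h6 : c = 0 ∨ c = 1 ∨ c = 2 := by omega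
    rcases h6 with rfl | rfl | rfl
    · have hf1 : f = 1 := by omega
      rw [hf1] at h2
      have h7 : r ∣ 1 + 2 * p - 1 := (Nat.modEq_iff_dvd' (by omega)).mp h2.symm
      have h8 : r ∣ 2 * p := by
        have : 1 + 2 * p - 1 = 2 * p := by omega
        rwa [this] at h7
      rcases (Nat.Prime.dvd_mul hr).mp h8 with h9 | h9
      · have hr2 : r = 2 := (Nat.prime_dvd_prime_iff_eq hr Nat.prime_two).mp h9
        exact sn_sign hn hodd hbig (k : G) (by rw [hk', hr2]) hf1
      · exact hne ((Nat.prime_dvd_prime_iff_eq hr hpp).mp h9)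
    · have hf1 : f = 1 + p := by omega
      rw [hf1] at h2
      have h7 : r ∣ 1 + 2 * p - (1 + p) := (Nat.modEq_iff_dvd' (by omega)).mp h2.symm
      have h8 : r ∣ p := by
        have : 1 + 2 * p - (1 + p) = p := by omega
        rwa [this] at h7
      exact hne ((Nat.prime_dvd_prime_iff_eq hr hpp).mp h8)
    · have hf1 : f = Nat.card (Sylow p G) := by omega
      have hall : ∀ Q : Sylow p G, (k : G) • Q = Q := by
        intro Q
        by_contra hQ
        have := Finite.card_subtype_lt (p := fun Q : Sylow p G => (k : G) • Q = Q) hQ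
        omega
      have hk1 := sn_faithful (p := p) (by rw [hn]; omega) (k : G) hall
      rw [hk1, orderOf_one] at hk'
      exact hr.one_lt.ne hk'
  exact P.3 hC hPC

lemma relIndex_centralizer_dvd_totient {q : ℕ} (R : Sylow q G) (hR : IsCyclic R) :
    (centralizer ((R : Subgroup G) : Set G)).relIndex (normalizer ((R : Subgroup G) : Set G)) ∣
      Nat.totient (Nat.card R) := by
  have key := card_dvd_of_injective _
    (QuotientGroup.kerLift_injective (R : Subgroup G).normalizerMonoidHom)
  rw [normalizerMonoidHom_ker, ← index, ← relIndex, hR.card_mulAut] at key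
  exact key

lemma sn_card [IsSimpleGroup G] (hn : Nat.card (Sylow p G) = 1 + 2 * p) (hp : 2 < p)
    (P : Sylow p G) (hP : Nat.card P = p) :
    ∃ e, e ∣ p - 1 ∧ Nat.card G = (1 + 2 * p) * (e * p) := by
  have hpp : p.Prime := Fact.out
  have h1 := relIndex_centralizer_dvd_totient P (isCyclic_of_prime_card hP)
  rw [sn_centralizer hn hp P hP, hP, Nat.totient_prime hpp] at h1
  refine ⟨_, h1, ?_⟩
  rw [← hn, P.card_eq_index_normalizer, ← (normalizer ((P : Subgroup G) : Set G)).index_mul_card]
  congr 1
  have h2 := Subgroup.relIndex_mul_index (H := (P : Subgroup G))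
    (K := normalizer ((P : Subgroup G) : Set G)) Subgroup.le_normalizer
  have h3 := (P : Subgroup G).index_mul_card
  have h4 := (normalizer ((P : Subgroup G) : Set G)).index_mul_card
  rw [hP] at h3
  have hpos : 0 < (normalizer ((P : Subgroup G) : Set G)).index :=
    Nat.pos_of_ne_zero (Subgroup.index_ne_zero_of_finite)
  apply Nat.eq_of_mul_eq_mul_left hpos
  rw [h4, ← h3, ← h2]
  ring

/-- A Sylow subgroup with `N(R) ≤ C(R)` cannot exist in a simple group of non-prime-power
order. -/
lemma sn_kill [IsSimpleGroup G] {q : ℕ} [Fact q.Prime] (R : Sylow q G) (hq : q ∣ Nat.card G)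
    (hpq : p ≠ q) (hpG : p ∣ Nat.card G)
    (hNC : normalizer ((R : Subgroup G) : Set G) ≤ centralizer ((R : Subgroup G) : Set G)) :
    False := by
  have hpp : p.Prime := Fact.out
  have hqq : q.Prime := Fact.out
  have hc := MonoidHom.ker_transferSylow_isComplement' R hNC
  have hcard := hc.card_mul_card
  have hK := IsSimpleGroup.eq_bot_or_eq_top_of_normal
    (MonoidHom.transferSylow R hNC).ker inferInstance
  rcases hK with h | h
  · rw [h, Subgroup.card_bot, one_mul] at hcard
    obtain ⟨k, hk⟩ := R.2.exists_card_eq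
    rw [← hcard, hk] at hpG
    exact hpq ((Nat.prime_dvd_prime_iff_eq hpp hqq).mp (hpp.dvd_of_dvd_pow hpG))
  · rw [h, Subgroup.card_top] at hcard
    have h1 : Nat.card R = 1 := by
      have hpos : 0 < Nat.card G := Nat.card_pos
      exact Nat.eq_of_mul_eq_mul_left hpos (by rw [hcard, mul_one])
    exact R.ne_bot_of_dvd_card hq (Subgroup.card_eq_one.mp h1)

lemma sylow_card_eq_prime {q : ℕ} [Fact q.Prime] (R : Sylow q G) (h1 : q ∣ Nat.card G)
    (h2 : ¬ q ^ 2 ∣ Nat.card G) : Nat.card R = q := by
  obtain ⟨k, hk⟩ := R.2.exists_card_eq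
  have h3 : Nat.card R ∣ Nat.card G := Subgroup.card_subgroup_dvd_card _
  rcases Nat.lt_or_ge k 2 with h | h
  · interval_cases k
    · exfalso
      rw [pow_zero] at hk
      exact R.ne_bot_of_dvd_card h1 (Subgroup.card_eq_one.mp hk)
    · rw [hk, pow_one]
  · exfalso
    apply h2
    rw [hk] at h3
    exact (pow_dvd_pow q h).trans h3

lemma sn_kill' [IsSimpleGroup G] (q : ℕ) [Fact q.Prime] (hq : q ∣ Nat.card G)
    (hq2 : ¬ q ^ 2 ∣ Nat.card G) (hcop : Nat.Coprime (Nat.card G) (q - 1))
    (hpq : p ≠ q) (hpG : p ∣ Nat.card G) : False := by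
  obtain ⟨R⟩ : Nonempty (Sylow q G) := inferInstance
  have hR := sylow_card_eq_prime R hq hq2
  have h1 := relIndex_centralizer_dvd_totient R (isCyclic_of_prime_card hR)
  rw [hR, Nat.totient_prime Fact.out] at h1
  have h2 : (centralizer ((R : Subgroup G) : Set G)).relIndex
      (normalizer ((R : Subgroup G) : Set G)) ∣ Nat.card G :=
    (Subgroup.relIndex_dvd_card _ _).trans (Subgroup.card_subgroup_dvd_card _)
  have h3 := Nat.eq_one_of_dvd_coprimes hcop h2 h1
  exact sn_kill (p := p) R hq hpq hpG (Subgroup.relIndex_eq_one.mp h3)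

/-- Sylow `q`-subgroups are cyclic for `q ∤ p (1 + 2p)`. -/
lemma sn_cyclic [IsSimpleGroup G] (hn : Nat.card (Sylow p G) = 1 + 2 * p) (hp : 2 < p)
    (P : Sylow p G) (hP : Nat.card P = p) (q : ℕ) [Fact q.Prime] (hqp : q ≠ p)
    (hq : ¬ q ∣ 1 + 2 * p) : ∃ R : Sylow q G, IsCyclic R := by
  have hpp : p.Prime := Fact.out
  have hqq : q.Prime := Fact.out
  obtain ⟨S0⟩ : Nonempty (Sylow q (normalizer ((P : Subgroup G) : Set G))) := inferInstance
  set N := normalizer ((P : Subgroup G) : Set G) with hN
  set S1 : Subgroup G := (S0 : Subgroup N).map N.subtype with hS1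
  have hS1N : S1 ≤ N := by
    rw [hS1]
    exact Subgroup.map_subtype_le _
  have hcard : Nat.card S1 = q ^ (Nat.card G).factorization q := by
    rw [hS1, Subgroup.card_map_of_injective N.subtype_injective, S0.card_eq_multiplicity,
      ← N.index_mul_card, Nat.factorization_mul Subgroup.index_ne_zero_of_finite Nat.card_pos.ne']
    have h0 : N.index.factorization q = 0 := by
      apply Nat.factorization_eq_zero_of_not_dvd
      have h := P.card_eq_index_normalizer
      rw [hn] at h
      have h' : N.index = 1 + 2 * p := h.symm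
      rw [h']
      exact hq
    simp [h0]
  refine ⟨Sylow.ofCard S1 hcard, ?_⟩
  show IsCyclic S1
  have hcP : IsCyclic P := isCyclic_of_prime_card hP
  have : Fact (Nat.card P).Prime := ⟨by rw [hP]; exact hpp⟩
  have : IsCyclic (MulAut P) :=
    isCyclic_of_injective (IsCyclic.mulAutMulEquiv P).toMonoidHom (IsCyclic.mulAutMulEquiv P).injective
  apply isCyclic_of_injective
    (((P : Subgroup G).normalizerMonoidHom).comp (Subgroup.inclusion hS1N))
  rw [injective_iff_map_eq_one]
  intro x hx
  have h1 : Subgroup.inclusion hS1N x ∈ ((P : Subgroup G).normalizerMonoidHom).ker := hx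
  rw [normalizerMonoidHom_ker, Subgroup.mem_subgroupOf, sn_centralizer hn hp P hP] at h1
  have h2 : (x : G) ∈ (P : Subgroup G) := h1
  have hS1p : IsPGroup q S1 := S0.2.map _
  have hd := IsPGroup.disjoint_of_ne q p hqp S1 P hS1p P.2
  have h3 := Subgroup.disjoint_def.mp hd x.2 h2
  exact Subtype.ext h3

end simple

lemma not_isPrimePow_of_two_primes {n a b : ℕ} (ha : a.Prime) (hb : b.Prime) (hab : a ≠ b)
    (han : a ∣ n) (hbn : b ∣ n) : ¬ IsPrimePow n := by
  rintro ⟨r, k, hr, hk, rfl⟩
  have hr' : r.Prime := hr.nat_prime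
  have h1 := (Nat.prime_dvd_prime_iff_eq ha hr').mp (ha.dvd_of_dvd_pow han)
  have h2 := (Nat.prime_dvd_prime_iff_eq hb hr').mp (hb.dvd_of_dvd_pow hbn)
  exact hab (h1.trans h2.symm)

/-- Reduction of a Sylow number to a simple group (M. Hall). -/
theorem exists_simple_of_sylow_num {G : Type u} [Group G] [Finite G] (p n : ℕ) [Fact p.Prime]
    (hn : Nat.card (Sylow p G) = n)
    (hdiv : ∀ m, m ∣ n → m % p = 1 → m = 1 ∨ m = n) (hn1 : n ≠ 1) (hpp : ¬ IsPrimePow n)
    (hlt : n < p ^ 2) :
    ∃ (S : Type u) (_ : Group S) (_ : Finite S), IsSimpleGroup S ∧ Nat.card (Sylow p S) = n ∧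
      (∀ P : Sylow p S, Nat.card P = p) := by
  have hp : p.Prime := Fact.out
  obtain ⟨l, hl, hm⟩ := Cfsg.Agent.S4303.result (G := G) p
  rw [hn] at hl
  have hmod : ∀ m ∈ l, m % p = 1 := by
    intro m hml
    rcases hm m hml with h | ⟨S, _, _, _, h⟩
    · exact h.2
    · rw [h]
      have := card_sylow_modEq_one p S
      have h2 : Nat.card (Sylow p S) % p = 1 % p := this
      rw [h2, Nat.mod_eq_of_lt hp.one_lt]
  have hex : ∃ m ∈ l, m = n := by
    by_contra hcon
    push Not at hcon
    apply hn1
    rw [← hl]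
    apply List.prod_eq_one
    intro m hml
    have hd : m ∣ n := hl ▸ List.dvd_prod hml
    rcases hdiv m hd (hmod m hml) with h | h
    · exact h
    · exact absurd h (hcon m hml)
  obtain ⟨m, hml, rfl⟩ := hex
  rcases hm m hml with h | ⟨S, iG, iF, hS, h⟩
  · exact absurd h.1 hpp
  · refine ⟨S, iG, iF, hS, h.symm, ?_⟩
    intro P
    have hnc : ¬ IsMulCommutative S := by
      intro hc
      apply hn1
      rw [h, Nat.card_eq_one_iff_unique]
      refine ⟨⟨fun P Q => ?_⟩, inferInstance⟩
      obtain ⟨x, hx⟩ := MulAction.exists_smul_eq S P Q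
      rw [← hx]
      symm
      apply Sylow.smul_eq_iff_mem_normalizer.mpr
      show x ∈ Subgroup.normalizer ((P : Subgroup S) : Set S)
      rw [Subgroup.mem_normalizer_iff]
      intro y
      have : x * y * x⁻¹ = y := by
        rw [hc.is_comm.comm x y, mul_inv_cancel_right]
      rw [this]
    have hpd : p ∣ Nat.card S := by
      by_contra hnd
      apply hn1
      rw [h, Nat.card_eq_one_iff_unique]
      refine ⟨⟨fun P Q => ?_⟩, inferInstance⟩
      have hb : ∀ R : Sylow p S, (R : Subgroup S) = ⊥ := by
        intro R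
        apply Subgroup.card_eq_one.mp
        rw [R.card_eq_multiplicity, Nat.factorization_eq_zero_of_not_dvd hnd, pow_zero]
      exact Sylow.ext ((hb P).trans (hb Q).symm)
    exact Cfsg.Agent.S4343.result hnc p hpd (h ▸ hlt) P

end Cfsg.Agent.Lib.Helper21
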