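import Mathlib

set_option autoImplicit false

namespace Cfsg.Agent.Lib.Helper21

open Subgroup

lemma td_comm {G : Type*} [Group G] (A : Subgroup G) (hA2 : ∀ a ∈ A, a * a = 1) :
    ∀ a ∈ A, ∀ b ∈ A, a * b = b * a := by
  intro a ha b hb
  have h1 := hA2 (a * b) (A.mul_mem ha hb)
  have h2 := hA2 a ha
  have h3 := hA2 b hb
  have ha' : a⁻¹ = a := inv_eq_of_mul_eq_one_left h2
  have hb' : b⁻¹ = b := inv_eq_of_mul_eq_one_left h3
  have h4 : a * b = (a * b)⁻¹ := (inv_eq_of_mul_eq_one_left h1).symm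
  rw [h4, mul_inv_rev, ha', hb']

lemma td_le_normalizer {G : Type*} [Group G] (A W : Subgroup G)
    (h : ∀ a ∈ A, ∀ x ∈ W, a * x * a⁻¹ ∈ W) : A ≤ normalizer (W : Set G) := by
  intro a ha
  rw [Subgroup.mem_normalizer_iff]
  intro x
  constructor
  · exact h a ha x
  · intro hx
    have := h a⁻¹ (A.inv_mem ha) _ hx
    simpa [mul_assoc] using this

lemma td_conj_mem {G : Type*} [Group G] {A W : Subgroup G} (h : A ≤ normalizer (W : Set G))
    {a x : G} (ha : a ∈ A) (hx : x ∈ W) : a * x * a⁻¹ ∈ W :=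
  (Subgroup.mem_normalizer_iff.1 (h ha) x).1 hx

lemma td_eq_one_of_sq {G : Type*} [Group G] (F : Subgroup G) (hodd : Odd (Nat.card ↥F)) {m : G}
    (hm : m ∈ F) (h2 : m * m = 1) : m = 1 := by
  have h1 : orderOf m ∣ 2 := orderOf_dvd_of_pow_eq_one (by rw [pow_two]; exact h2)
  have h3 : orderOf m ∣ Nat.card ↥F := by
    have := orderOf_dvd_natCard (⟨m, hm⟩ : ↥F)
    rwa [Subgroup.orderOf_mk] at this
  have h4 : orderOf m ∣ Nat.gcd 2 (Nat.card ↥F) := Nat.dvd_gcd h1 h3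
  have h5 : Nat.gcd 2 (Nat.card ↥F) = 1 := (Nat.coprime_two_left.2 hodd)
  rw [h5] at h4
  exact orderOf_eq_one_iff.1 (Nat.dvd_one.1 h4)

lemma td_exists_central {Q : Type*} [Group Q] (F C : Subgroup Q)
    (hFn : Group.IsNilpotent ↥F) (hCF : C ≤ F) (hFC : F ≤ normalizer (C : Set Q)) (hC : C ≠ ⊥) :
    C ⊓ centralizer (F : Set Q) ≠ ⊥ := by
  classical
  let D : ℕ → Subgroup Q := fun n => Nat.rec (motive := fun _ => Subgroup Q) C (fun _ X => ⁅X, F⁆) n
  have hDs : ∀ n, D (n+1) = ⁅D n, F⁆ := fun n => rfl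
  have hDC : ∀ n, D n ≤ C := by
    intro n
    induction n with
    | zero => exact le_rfl
    | succ n ih =>
      rw [hDs, Subgroup.commutator_le]
      intro g₁ h₁ g₂ h₂
      have h3 : g₂ * g₁⁻¹ * g₂⁻¹ ∈ C := td_conj_mem hFC h₂ (C.inv_mem (ih h₁))
      rw [commutatorElement_def]
      have : g₁ * g₂ * g₁⁻¹ * g₂⁻¹ = g₁ * (g₂ * g₁⁻¹ * g₂⁻¹) := by group
      rw [this]
      exact C.mul_mem (ih h₁) h3
  have hDl : ∀ n, D n ≤ F.lowerCentralSeries n := by
    intro n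
    induction n with
    | zero => exact hCF
    | succ n ih =>
      rw [Subgroup.lowerCentralSeries_succ, hDs]
      exact Subgroup.commutator_mono ih le_rfl
  obtain ⟨n, hn⟩ := (Subgroup.isNilpotent_iff_lowerCentralSeries F).1 hFn
  have hex : ∃ n, D n = ⊥ := ⟨n, by
    have := hDl n
    rw [hn] at this
    exact le_bot_iff.1 this⟩
  haveI : DecidablePred (fun n => D n = ⊥) := fun _ => Classical.propDecidable _
  have hm : D (@Nat.find (fun n => D n = ⊥) _ hex) = ⊥ := @Nat.find_spec (fun n => D n = ⊥) _ hex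
  have hm0 : Nat.find hex ≠ 0 := by
    intro h0
    rw [h0] at hm
    exact hC hm
  obtain ⟨k, hk⟩ := Nat.exists_eq_succ_of_ne_zero hm0
  have hk1 : D k ≠ ⊥ := Nat.find_min hex (by omega)
  have hk2 : ⁅D k, F⁆ = ⊥ := by
    rw [← hDs, ← Nat.succ_eq_add_one, ← hk]
    exact hm
  intro hbot
  apply hk1
  rw [eq_bot_iff, ← hbot]
  exact le_inf (hDC k) (Subgroup.commutator_eq_bot_iff_le_centralizer.1 hk2)

lemma td_exists_eigen {Q : Type*} [Group Q] [Finite Q] (Z A : Subgroup Q)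
    (hA2 : ∀ a ∈ A, a * a = 1) (hZc : ∀ x ∈ Z, ∀ y ∈ Z, x * y = y * x)
    (hAZ : A ≤ normalizer (Z : Set Q)) (hZ : Z ≠ ⊥) :
    ∃ w ∈ Z, w ≠ 1 ∧ ∀ a ∈ A, a * w * a⁻¹ = w ∨ a * w * a⁻¹ = w⁻¹ := by
  classical
  have hAc := td_comm A hA2
  let S : Set (Subgroup Q) := {W | W ≤ Z ∧ W ≠ ⊥ ∧ A ≤ normalizer (W : Set Q)}
  obtain ⟨W, hWS, hmin⟩ := (Set.toFinite S).exists_minimal ⟨Z, le_rfl, hZ, hAZ⟩
  obtain ⟨hWZ, hW0, hAW⟩ := hWS
  obtain ⟨w, hw, hw1⟩ : ∃ w ∈ W, w ≠ 1 := by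
    by_contra hcon
    push Not at hcon
    exact hW0 ((Subgroup.eq_bot_iff_forall W).2 hcon)
  refine ⟨w, hWZ hw, hw1, ?_⟩
  intro a ha
  have hWp : A ≤ normalizer ((W ⊓ centralizer ({a} : Set Q) : Subgroup Q) : Set Q) := by
    apply td_le_normalizer
    intro b hb x hx
    obtain ⟨hx1, hx2⟩ := Subgroup.mem_inf.1 hx
    rw [Subgroup.mem_centralizer_singleton_iff] at hx2
    refine Subgroup.mem_inf.2 ⟨td_conj_mem hAW hb hx1, ?_⟩
    rw [Subgroup.mem_centralizer_singleton_iff]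
    have hab := hAc a ha b hb
    have hab' : b⁻¹ * a = a * b⁻¹ := by
      rw [inv_mul_eq_iff_eq_mul, ← mul_assoc, ← hab, mul_assoc, mul_inv_cancel, mul_one]
    calc b * x * b⁻¹ * a = b * x * (b⁻¹ * a) := by group
      _ = b * (x * a) * b⁻¹ := by rw [hab']; group
      _ = (b * a) * x * b⁻¹ := by rw [hx2]; group
      _ = a * (b * x * b⁻¹) := by rw [← hab]; group
  by_cases hbot : W ⊓ centralizer ({a} : Set Q) = ⊥
  · right
    have hv : a * w * a⁻¹ * w ∈ W ⊓ centralizer ({a} : Set Q) := by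
      refine Subgroup.mem_inf.2 ⟨W.mul_mem (td_conj_mem hAW ha hw) hw, ?_⟩
      rw [Subgroup.mem_centralizer_singleton_iff]
      have ha' : a⁻¹ = a := inv_eq_of_mul_eq_one_left (hA2 a ha)
      have hc := hZc _ (hWZ (td_conj_mem hAW ha hw)) _ (hWZ hw)
      rw [ha'] at hc ⊢
      have haa := hA2 a ha
      calc a * w * a * w * a = (a * w * a * w) * a := by group
        _ = (w * (a * w * a)) * a := by rw [hc]
        _ = w * a * w * (a * a) := by group
        _ = (a * a) * w * a * w := by rw [haa]; group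
        _ = a * (a * w * a * w) := by group
    rw [hbot, Subgroup.mem_bot] at hv
    exact eq_inv_of_mul_eq_one_left hv
  · left
    have h1 : W ≤ W ⊓ centralizer ({a} : Set Q) :=
      hmin ⟨inf_le_left.trans hWZ, hbot, hWp⟩ inf_le_left
    have h2 := (Subgroup.mem_inf.1 (h1 hw)).2
    rw [Subgroup.mem_centralizer_singleton_iff] at h2
    rw [← h2, mul_assoc, mul_inv_cancel, mul_one]

lemma td_normalizes_inf_centralizer {G : Type*} [Group G] (X F M : Subgroup G)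
    (h1 : X ≤ normalizer (F : Set G)) (h2 : X ≤ normalizer (M : Set G)) :
    X ≤ normalizer ((F ⊓ centralizer (M : Set G) : Subgroup G) : Set G) := by
  apply td_le_normalizer
  intro g hg c hc
  obtain ⟨hc1, hc2⟩ := Subgroup.mem_inf.1 hc
  refine Subgroup.mem_inf.2 ⟨td_conj_mem h1 hg hc1, ?_⟩
  rw [Subgroup.mem_centralizer_iff] at hc2 ⊢
  intro m hm
  have h3 : g⁻¹ * m * g⁻¹⁻¹ ∈ M := td_conj_mem h2 (X.inv_mem hg) hm
  have h4 := hc2 _ h3
  rw [inv_inv] at h4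
  calc m * (g * c * g⁻¹) = g * ((g⁻¹ * m * g) * c) * g⁻¹ := by group
    _ = g * (c * (g⁻¹ * m * g)) * g⁻¹ := by rw [h4]
    _ = g * c * g⁻¹ * m := by group

lemma td_exists_lift {G : Type*} [Group G] [Finite G] (F A M : Subgroup G)
    (hFn : Group.IsNilpotent ↥F) (hA2 : ∀ a ∈ A, a * a = 1)
    (hAF : A ≤ normalizer (F : Set G)) (hFM : F ≤ normalizer (M : Set G))
    (hAM : A ≤ normalizer (M : Set G)) (hCM : ¬ F ⊓ centralizer (M : Set G) ≤ M) :
    ∃ x0 ∈ F ⊓ centralizer (M : Set G), x0 ∉ M ∧ (∀ f ∈ F, f * x0 * f⁻¹ * x0⁻¹ ∈ M) ∧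
      ∀ a ∈ A, x0⁻¹ * (a * x0 * a⁻¹) ∈ M ∨ x0 * (a * x0 * a⁻¹) ∈ M := by
  classical
  obtain ⟨C, hCdef⟩ : ∃ C, C = F ⊓ centralizer (M : Set G) := ⟨_, rfl⟩
  rw [← hCdef] at hCM ⊢
  have hCF : C ≤ F := hCdef ▸ inf_le_left
  have hFC : F ≤ normalizer (C : Set G) := by
    rw [hCdef]; exact td_normalizes_inf_centralizer F F M Subgroup.le_normalizer hFM
  have hAC : A ≤ normalizer (C : Set G) := by
    rw [hCdef]; exact td_normalizes_inf_centralizer A F M hAF hAM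
  obtain ⟨K, hK⟩ : ∃ K, K = normalizer (M : Set G) := ⟨_, rfl⟩
  haveI hMn : (M.subgroupOf K).Normal := by rw [hK]; exact Subgroup.normal_in_normalizer
  rw [← hK] at hFM hAM
  let π : ↥K →* ↥K ⧸ M.subgroupOf K := QuotientGroup.mk' _
  have hπ1 : ∀ k : ↥K, π k = 1 ↔ (k : G) ∈ M := by
    intro k
    rw [show π k = (k : ↥K ⧸ M.subgroupOf K) from rfl, QuotientGroup.eq_one_iff,
      Subgroup.mem_subgroupOf]
  have hΦn : ∀ X Y : Subgroup G, X ≤ normalizer (Y : Set G) →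
      (X.subgroupOf K).map π ≤ normalizer (((Y.subgroupOf K).map π : Subgroup _) : Set _) := by
    intro X Y h
    refine le_trans (Subgroup.map_mono ?_) (Subgroup.le_normalizer_map π)
    exact le_trans (Subgroup.comap_mono h) (Subgroup.le_normalizer_comap K.subtype)
  have hFbn : Group.IsNilpotent ↥((F.subgroupOf K).map π) := by
    have e : ↥(F.subgroupOf K) ≃* ↥F := Subgroup.subgroupOfEquivOfLe hFM
    haveI := hFn
    haveI : Group.IsNilpotent ↥(F.subgroupOf K) := Group.nilpotent_of_mulEquiv e.symm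
    exact Group.nilpotent_of_surjective (π.subgroupMap (F.subgroupOf K))
      (MonoidHom.subgroupMap_surjective _ _)
  have hCb : (C.subgroupOf K).map π ≠ ⊥ := by
    intro hbot
    obtain ⟨c, hc, hcM⟩ := SetLike.not_le_iff_exists.1 hCM
    have h1 : π ⟨c, hFM (hCF hc)⟩ ∈ (C.subgroupOf K).map π :=
      Subgroup.mem_map_of_mem _ (Subgroup.mem_subgroupOf.2 hc)
    rw [hbot, Subgroup.mem_bot, hπ1] at h1
    exact hcM h1
  have hCFb : (C.subgroupOf K).map π ≤ (F.subgroupOf K).map π :=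
    Subgroup.map_mono (Subgroup.comap_mono hCF)
  have hZ := td_exists_central _ _ hFbn hCFb (hΦn F C hFC) hCb
  have hAb2 : ∀ a ∈ (A.subgroupOf K).map π, a * a = 1 := by
    intro a ha
    obtain ⟨a0, ha0, rfl⟩ := Subgroup.mem_map.1 ha
    rw [← map_mul]
    have : a0 * a0 = 1 := Subtype.ext (hA2 _ (Subgroup.mem_subgroupOf.1 ha0))
    rw [this, map_one]
  obtain ⟨w, hwZ, hw1, hwA⟩ := td_exists_eigen _ ((A.subgroupOf K).map π) hAb2
    (fun x hx y hy => ((Subgroup.mem_centralizer_iff.1 (Subgroup.mem_inf.1 hx).2) y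
      (hCFb (Subgroup.mem_inf.1 hy).1)).symm)
    (td_normalizes_inf_centralizer _ _ _ (hΦn A C hAC) (hΦn A F hAF)) hZ
  obtain ⟨hwC, hwcent⟩ := Subgroup.mem_inf.1 hwZ
  obtain ⟨x, hxC, rfl⟩ := Subgroup.mem_map.1 hwC
  refine ⟨x, Subgroup.mem_subgroupOf.1 hxC, fun h => hw1 ((hπ1 x).2 h), ?_, ?_⟩
  · intro f hf
    have h1 : π ⟨f, hFM hf⟩ ∈ (F.subgroupOf K).map π :=
      Subgroup.mem_map_of_mem _ (Subgroup.mem_subgroupOf.2 hf)
    have h2 := Subgroup.mem_centralizer_iff.1 hwcent _ h1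
    have h3 : π (⟨f, hFM hf⟩ * x * ⟨f, hFM hf⟩⁻¹ * x⁻¹) = 1 := by
      rw [map_mul, map_mul, map_mul, map_inv, map_inv, h2]; group
    exact (hπ1 _).1 h3
  · intro a ha
    have h1 : π ⟨a, hAM ha⟩ ∈ (A.subgroupOf K).map π :=
      Subgroup.mem_map_of_mem _ (Subgroup.mem_subgroupOf.2 ha)
    rcases hwA _ h1 with h | h
    · left
      have h3 : π (x⁻¹ * (⟨a, hAM ha⟩ * x * ⟨a, hAM ha⟩⁻¹)) = 1 := by
        rw [map_mul, map_mul, map_mul, map_inv, map_inv, h]; group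
      exact (hπ1 _).1 h3
    · right
      have h3 : π (x * (⟨a, hAM ha⟩ * x * ⟨a, hAM ha⟩⁻¹)) = 1 := by
        rw [map_mul, map_mul, map_mul, map_inv, h]; group
      exact (hπ1 _).1 h3

theorem td_exists_abelian {G : Type*} [Group G] [Finite G] (F A : Subgroup G)
    (hFn : Group.IsNilpotent ↥F) (hodd : Odd (Nat.card ↥F)) (hA2 : ∀ a ∈ A, a * a = 1)
    (hAF : A ≤ normalizer (F : Set G))
    (hfaith : ∀ a ∈ A, (∀ f ∈ F, a * f = f * a) → a = 1) :
    ∃ M : Subgroup G, M ≤ F ∧ (∀ x ∈ M, ∀ y ∈ M, x * y = y * x) ∧ A ≤ normalizer (M : Set G) ∧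
      ∀ a ∈ A, (∀ m ∈ M, a * m = m * a) → a = 1 := by
  classical
  let S : Set (Subgroup G) := {M | M ≤ F ∧ (∀ x ∈ M, ∀ y ∈ M, x * y = y * x) ∧
    F ≤ normalizer (M : Set G) ∧ A ≤ normalizer (M : Set G)}
  have hbot : (⊥ : Subgroup G) ∈ S := by
    refine ⟨bot_le, ?_, ?_, ?_⟩
    · intro x hx y hy
      rw [Subgroup.mem_bot] at hx hy
      rw [hx, hy]
    · apply td_le_normalizer
      intro a _ x hx
      rw [Subgroup.mem_bot] at hx ⊢
      rw [hx]; group
    · apply td_le_normalizer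
      intro a _ x hx
      rw [Subgroup.mem_bot] at hx ⊢
      rw [hx]; group
  obtain ⟨M, hMS, hmax⟩ := (Set.toFinite S).exists_maximal ⟨⊥, hbot⟩
  obtain ⟨hMF, hMc, hFM, hAM⟩ := hMS
  have hCM : F ⊓ centralizer (M : Set G) ≤ M := by
    by_contra hCM
    obtain ⟨x0, hx0C, hx0M, hx0F, hx0A⟩ := td_exists_lift F A M hFn hA2 hAF hFM hAM hCM
    obtain ⟨hx0F', hx0c⟩ := Subgroup.mem_inf.1 hx0C
    obtain ⟨N, hN⟩ : ∃ N, N = M ⊔ zpowers x0 := ⟨_, rfl⟩
    have hMN : M ≤ N := hN ▸ le_sup_left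
    have hxN : x0 ∈ N := by
      rw [hN]; exact (le_sup_right : zpowers x0 ≤ M ⊔ zpowers x0) (Subgroup.mem_zpowers x0)
    have h1 : M ≤ centralizer (M : Set G) :=
      fun x hx => Subgroup.mem_centralizer_iff.2 (fun y hy => hMc y hy x hx)
    have h2 : zpowers x0 ≤ centralizer (M : Set G) := Subgroup.zpowers_le.2 hx0c
    have h3 : N ≤ centralizer (M : Set G) := hN ▸ sup_le h1 h2
    have h4 : M ≤ centralizer (N : Set G) := Subgroup.le_centralizer_iff.1 h3
    have h5 : M ≤ centralizer (zpowers x0 : Set G) := Subgroup.le_centralizer_iff.1 h2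
    have h6 : zpowers x0 ≤ centralizer (zpowers x0 : Set G) := by
      rw [Subgroup.zpowers_le, Subgroup.mem_centralizer_iff]
      intro y hy
      obtain ⟨k, rfl⟩ := Subgroup.mem_zpowers_iff.1 hy
      exact ((Commute.refl x0).zpow_left k).eq
    have h7 : N ≤ centralizer (zpowers x0 : Set G) := hN ▸ sup_le h5 h6
    have h8 : zpowers x0 ≤ centralizer (N : Set G) := Subgroup.le_centralizer_iff.1 h7
    have h9 : N ≤ centralizer (N : Set G) := by
      calc N = M ⊔ zpowers x0 := hN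
        _ ≤ centralizer (N : Set G) := sup_le h4 h8
    have key : ∀ g : G, (∀ m ∈ M, g * m * g⁻¹ ∈ M) → g * x0 * g⁻¹ ∈ N →
        ∀ y ∈ N, g * y * g⁻¹ ∈ N := by
      intro g h1 h2
      have h3 : N ≤ N.comap (MulAut.conj g).toMonoidHom := by
        calc N = M ⊔ zpowers x0 := hN
          _ ≤ N.comap (MulAut.conj g).toMonoidHom := by
            apply sup_le
            · intro m hm
              exact Subgroup.mem_comap.2 (by simpa using hMN (h1 m hm))
            · rw [Subgroup.zpowers_le]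
              exact Subgroup.mem_comap.2 (by simpa using h2)
      intro y hy
      simpa using h3 hy
    have hNS : N ∈ S := by
      refine ⟨?_, ?_, ?_, ?_⟩
      · rw [hN]; exact sup_le hMF (Subgroup.zpowers_le.2 hx0F')
      · intro x hx y hy
        exact (Subgroup.mem_centralizer_iff.1 (h9 hx) y hy).symm
      · apply td_le_normalizer
        intro f hf
        apply key f (fun m hm => td_conj_mem hFM hf hm)
        have : f * x0 * f⁻¹ = (f * x0 * f⁻¹ * x0⁻¹) * x0 := by group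
        rw [this]
        exact N.mul_mem (hMN (hx0F f hf)) hxN
      · apply td_le_normalizer
        intro a ha
        apply key a (fun m hm => td_conj_mem hAM ha hm)
        rcases hx0A a ha with h | h
        · have : a * x0 * a⁻¹ = x0 * (x0⁻¹ * (a * x0 * a⁻¹)) := by group
          rw [this]
          exact N.mul_mem hxN (hMN h)
        · have : a * x0 * a⁻¹ = x0⁻¹ * (x0 * (a * x0 * a⁻¹)) := by group
          rw [this]
          exact N.mul_mem (N.inv_mem hxN) (hMN h)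
    exact hx0M (hmax hNS hMN hxN)
  refine ⟨M, hMF, hMc, hAM, ?_⟩
  intro t ht htM
  apply hfaith t ht
  intro f hf
  have ht' : t⁻¹ = t := inv_eq_of_mul_eq_one_left (hA2 t ht)
  obtain ⟨f', hf'⟩ : ∃ f', f' = t * f * t⁻¹ := ⟨_, rfl⟩
  have hf'F : f' ∈ F := hf' ▸ td_conj_mem hAF ht hf
  have hmC : f⁻¹ * f' ∈ F ⊓ centralizer (M : Set G) := by
    refine Subgroup.mem_inf.2 ⟨F.mul_mem (F.inv_mem hf) hf'F, ?_⟩
    rw [Subgroup.mem_centralizer_iff]
    intro y hy
    have h1 : f * y * f⁻¹ ∈ M := td_conj_mem hFM hf hy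
    have h2 := htM _ h1
    have h3 := htM _ hy
    have h4 : f' * y * f'⁻¹ = f * y * f⁻¹ := by
      have h3' : t⁻¹ * y * t = y := by
        rw [mul_assoc, ← h3, ← mul_assoc, inv_mul_cancel, one_mul]
      calc f' * y * f'⁻¹ = t * (f * (t⁻¹ * y * t) * f⁻¹) * t⁻¹ := by rw [hf']; group
        _ = t * (f * y * f⁻¹) * t⁻¹ := by rw [h3']
        _ = f * y * f⁻¹ := by rw [h2, mul_assoc, mul_inv_cancel, mul_one]
    calc y * (f⁻¹ * f') = f⁻¹ * (f * y * f⁻¹) * f' := by group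
      _ = f⁻¹ * (f' * y * f'⁻¹) * f' := by rw [h4]
      _ = f⁻¹ * f' * y := by group
  have hmM : f⁻¹ * f' ∈ M := hCM hmC
  have h5 := htM _ hmM
  have h6 : t * f' * t⁻¹ = f := by
    rw [hf', ht']
    calc t * (t * f * t) * t = (t * t) * f * (t * t) := by group
      _ = f := by rw [hA2 t ht]; group
  have h7 : (f⁻¹ * f') * (f⁻¹ * f') = 1 := by
    have h8 : t * f' * t⁻¹ = f' * (f⁻¹ * f') := by
      calc t * f' * t⁻¹ = (t * f * t⁻¹) * (t * (f⁻¹ * f')) * t⁻¹ := by group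
        _ = f' * ((f⁻¹ * f') * t) * t⁻¹ := by rw [h5, ← hf']
        _ = f' * (f⁻¹ * f') := by group
    rw [h6] at h8
    calc (f⁻¹ * f') * (f⁻¹ * f') = f⁻¹ * (f' * (f⁻¹ * f')) := by group
      _ = f⁻¹ * f := by rw [← h8]
      _ = 1 := inv_mul_cancel f
  have h9 : f⁻¹ * f' = 1 := td_eq_one_of_sq F hodd (F.mul_mem (F.inv_mem hf) hf'F) h7
  have h10 : f' = f := by
    rw [inv_mul_eq_one] at h9
    exact h9.symm
  rw [hf'] at h10
  exact mul_inv_eq_iff_eq_mul.1 h10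

lemma td_exists_inverted {G : Type*} [Group G] [Finite G] (M A : Subgroup G)
    (hMc : ∀ x ∈ M, ∀ y ∈ M, x * y = y * x) (hA2 : ∀ a ∈ A, a * a = 1)
    (hAM : A ≤ normalizer (M : Set G)) (t : G) (ht : t ∈ A) (htM : ¬ ∀ m ∈ M, t * m = m * t) :
    ∃ x ∈ M, (orderOf x).Prime ∧ t * x * t⁻¹ = x⁻¹ ∧
      ∀ a ∈ A, a * x * a⁻¹ = x ∨ a * x * a⁻¹ = x⁻¹ := by
  classical
  have hAc := td_comm A hA2
  let Mt : Subgroup G :=
    { carrier := {m | m ∈ M ∧ t * m * t⁻¹ = m⁻¹}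
      one_mem' := ⟨M.one_mem, by simp⟩
      mul_mem' := by
        rintro x y ⟨hx, hx'⟩ ⟨hy, hy'⟩
        refine ⟨M.mul_mem hx hy, ?_⟩
        have : t * (x * y) * t⁻¹ = (t * x * t⁻¹) * (t * y * t⁻¹) := by group
        rw [this, hx', hy', mul_inv_rev]
        exact hMc _ (M.inv_mem hx) _ (M.inv_mem hy)
      inv_mem' := by
        rintro x ⟨hx, hx'⟩
        refine ⟨M.inv_mem hx, ?_⟩
        have : t * x⁻¹ * t⁻¹ = (t * x * t⁻¹)⁻¹ := by group
        rw [this, hx'] }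
  have hmem : ∀ m, m ∈ Mt ↔ m ∈ M ∧ t * m * t⁻¹ = m⁻¹ := fun m => Iff.rfl
  have hMt0 : Mt ≠ ⊥ := by
    intro hbot
    apply htM
    intro m hm
    have hv : m⁻¹ * (t * m * t⁻¹) ∈ Mt := by
      rw [hmem]
      have h1 : t * m * t⁻¹ ∈ M := td_conj_mem hAM ht hm
      refine ⟨M.mul_mem (M.inv_mem hm) h1, ?_⟩
      have ht' : t⁻¹ = t := inv_eq_of_mul_eq_one_left (hA2 t ht)
      have htt := hA2 t ht
      have h2 : t * (m⁻¹ * (t * m * t⁻¹)) * t⁻¹ = (t * m * t⁻¹)⁻¹ * m := by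
        calc t * (m⁻¹ * (t * m * t⁻¹)) * t⁻¹ = t * m⁻¹ * (t * m * t⁻¹ * t⁻¹) := by group
          _ = t * m⁻¹ * (t⁻¹ * m * (t * t)) := by rw [ht']; group
          _ = (t * m * t⁻¹)⁻¹ * m := by rw [htt]; group
      rw [h2, mul_inv_rev m⁻¹, inv_inv]
    rw [hbot, Subgroup.mem_bot] at hv
    have h3 : m = t * m * t⁻¹ := inv_mul_eq_one.1 hv
    exact mul_inv_eq_iff_eq_mul.1 h3.symm
  have hAMt : A ≤ normalizer (Mt : Set G) := by
    apply td_le_normalizer
    intro a ha m hm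
    rw [hmem] at hm ⊢
    refine ⟨td_conj_mem hAM ha hm.1, ?_⟩
    calc t * (a * m * a⁻¹) * t⁻¹ = (t * a) * m * (t * a)⁻¹ := by group
      _ = (a * t) * m * (a * t)⁻¹ := by rw [hAc t ht a ha]
      _ = a * (t * m * t⁻¹) * a⁻¹ := by group
      _ = a * m⁻¹ * a⁻¹ := by rw [hm.2]
      _ = (a * m * a⁻¹)⁻¹ := by group
  obtain ⟨w, hwMt, hw1, hwA⟩ := td_exists_eigen Mt A hA2
    (fun x hx y hy => hMc x hx.1 y hy.1) hAMt hMt0
  have hw0 : orderOf w ≠ 0 := (orderOf_pos w).ne'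
  have hwo : orderOf w ≠ 1 := fun h => hw1 (orderOf_eq_one_iff.1 h)
  have hp : (orderOf w).minFac.Prime := Nat.minFac_prime hwo
  have hx := orderOf_pow_orderOf_div hw0 (Nat.minFac_dvd (orderOf w))
  have hxMt : w ^ (orderOf w / (orderOf w).minFac) ∈ Mt := Mt.pow_mem hwMt _
  refine ⟨w ^ (orderOf w / (orderOf w).minFac), hxMt.1, by rw [hx]; exact hp, hxMt.2, ?_⟩
  intro a ha
  rcases hwA a ha with h | h
  · left; rw [← conj_pow, h]
  · right; rw [← conj_pow, h, inv_pow]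

lemma td_card_sup {G : Type*} [Group G] (H K : Subgroup G)
    (hc : ∀ h ∈ H, ∀ k ∈ K, h * k = k * h) (hd : H ⊓ K = ⊥) :
    Nat.card ↥(H ⊔ K) = Nat.card ↥H * Nat.card ↥K := by
  have hcomm : ∀ (m : ↥H) (n : ↥K), Commute (H.subtype m) (K.subtype n) :=
    fun h k => hc h h.2 k k.2
  have hinj : Function.Injective (MonoidHom.noncommCoprod H.subtype K.subtype hcomm) := by
    rw [MonoidHom.noncommCoprod_injective]
    refine ⟨Subtype.val_injective, Subtype.val_injective, ?_⟩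
    rw [Subgroup.range_subtype, Subgroup.range_subtype, disjoint_iff]
    exact hd
  have hr : (MonoidHom.noncommCoprod H.subtype K.subtype hcomm).range = H ⊔ K := by
    rw [MonoidHom.noncommCoprod_range, Subgroup.range_subtype, Subgroup.range_subtype]
  rw [← hr, ← Nat.card_prod]
  exact (Nat.card_congr (MonoidHom.ofInjective hinj).toEquiv).symm

theorem td_greedy {G : Type*} [Group G] [Finite G] (M A : Subgroup G) (hodd : Odd (Nat.card ↥M))
    (hMc : ∀ x ∈ M, ∀ y ∈ M, x * y = y * x) (hA2 : ∀ a ∈ A, a * a = 1)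
    (hAM : A ≤ normalizer (M : Set G)) (hfaith : ∀ a ∈ A, (∀ m ∈ M, a * m = m * a) → a = 1) :
    ∀ (k : ℕ) (B Y : Subgroup G), B ≤ A → Y ≤ M → Nat.card ↥B = 2 ^ k →
      (∀ b ∈ B, ∀ y ∈ Y, b * y = y * b) →
      ∃ x : Fin k → G, (∀ i, x i ∈ M) ∧ (∀ i, (orderOf (x i)).Prime) ∧
        (∀ i, ∀ a ∈ A, a * x i * a⁻¹ = x i ∨ a * x i * a⁻¹ = (x i)⁻¹) ∧
        Nat.card ↥(Y ⊔ ⨆ i, zpowers (x i)) = Nat.card ↥Y * ∏ i, orderOf (x i) ∧
        (∀ b ∈ B, (∀ i, b * x i = x i * b) → b = 1) := by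
  intro k
  induction k with
  | zero =>
    intro B Y hBA hYM hB hBY
    refine ⟨Fin.elim0, fun i => i.elim0, fun i => i.elim0, fun i => i.elim0, ?_, ?_⟩
    · simp
    · intro b hb _
      have : B = ⊥ := (Subgroup.card_eq_one).1 (by simpa using hB)
      rw [this, Subgroup.mem_bot] at hb
      exact hb
  | succ k ih =>
    intro B Y hBA hYM hB hBY
    obtain ⟨t, htB, ht1⟩ : ∃ t ∈ B, t ≠ 1 := by
      by_contra hcon
      push Not at hcon
      have h1 : B = ⊥ := (Subgroup.eq_bot_iff_forall B).2 hcon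
      rw [h1, Subgroup.card_bot] at hB
      have h2 : 2 ^ 1 ≤ 2 ^ (k+1) := Nat.pow_le_pow_right (by norm_num) (by omega)
      omega
    have htA := hBA htB
    obtain ⟨x0, hx0M, hx0p, hx0t, hx0A⟩ := td_exists_inverted M A hMc hA2 hAM t htA
      (fun h => ht1 (hfaith t htA h))
    have hx01 : x0 ≠ 1 := by
      rintro rfl
      rw [orderOf_one] at hx0p
      exact Nat.not_prime_one hx0p
    have hx0ne : x0⁻¹ ≠ x0 := by
      intro h
      apply hx01
      apply td_eq_one_of_sq M hodd hx0M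
      calc x0 * x0 = x0⁻¹ * x0 := by rw [h]
        _ = 1 := inv_mul_cancel x0
    obtain ⟨B', hB'def⟩ : ∃ B', B' = B ⊓ centralizer ({x0} : Set G) := ⟨_, rfl⟩
    have hB'B : B' ≤ B := hB'def ▸ inf_le_left
    have hB'mem : ∀ b, b ∈ B' ↔ b ∈ B ∧ b * x0 = x0 * b := by
      intro b
      rw [hB'def, Subgroup.mem_inf, Subgroup.mem_centralizer_singleton_iff]
    have hrel : B'.relIndex B = 2 := by
      rw [Subgroup.relIndex_eq_two_iff_exists_notMem_and]
      refine ⟨t, htB, ?_, ?_⟩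
      · intro h
        have h2 := ((hB'mem t).1 h).2
        apply hx0ne
        rw [← hx0t, h2, mul_assoc, mul_inv_cancel, mul_one]
      · intro b hb
        rcases hx0A b (hBA hb) with h | h
        · right
          exact (hB'mem b).2 ⟨hb, mul_inv_eq_iff_eq_mul.1 h⟩
        · left
          refine (hB'mem _).2 ⟨B.mul_mem hb htB, ?_⟩
          apply mul_inv_eq_iff_eq_mul.1
          calc b * t * x0 * (b * t)⁻¹ = b * (t * x0 * t⁻¹) * b⁻¹ := by group
            _ = (b * x0 * b⁻¹)⁻¹ := by rw [hx0t]; group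
            _ = x0 := by rw [h, inv_inv]
    have hB' : Nat.card ↥B' = 2 ^ k := by
      have h1 := Subgroup.relIndex_mul_relIndex ⊥ B' B bot_le hB'B
      rw [Subgroup.relIndex_bot_left, Subgroup.relIndex_bot_left, hrel, hB, pow_succ] at h1
      exact Nat.eq_of_mul_eq_mul_right (by norm_num : 0 < 2) h1
    have hdisj : Y ⊓ zpowers x0 = ⊥ := by
      rw [eq_bot_iff]
      intro y hy
      obtain ⟨hy1, hy2⟩ := Subgroup.mem_inf.1 hy
      rw [Subgroup.mem_bot]
      apply td_eq_one_of_sq M hodd (hYM hy1)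
      obtain ⟨j, rfl⟩ := Subgroup.mem_zpowers_iff.1 hy2
      have h1 := hBY t htB _ hy1
      have h2 : t * x0 ^ j * t⁻¹ = (x0 ^ j)⁻¹ := by
        rw [← conj_zpow, hx0t, inv_zpow]
      have h3 : t * x0 ^ j * t⁻¹ = x0 ^ j := by rw [h1, mul_assoc, mul_inv_cancel, mul_one]
      rw [h3] at h2
      calc x0 ^ j * x0 ^ j = (x0 ^ j)⁻¹ * x0 ^ j := by rw [← h2]
        _ = 1 := inv_mul_cancel _
    have hzM : zpowers x0 ≤ M := Subgroup.zpowers_le.2 hx0M
    have hcardY' : Nat.card ↥(Y ⊔ zpowers x0) = Nat.card ↥Y * orderOf x0 := by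
      rw [td_card_sup Y (zpowers x0) (fun h hh k hk => hMc h (hYM hh) k (hzM hk)) hdisj,
        Nat.card_zpowers]
    have hB'Y' : ∀ b ∈ B', ∀ y ∈ Y ⊔ zpowers x0, b * y = y * b := by
      intro b hb y hy
      have h1 : Y ⊔ zpowers x0 ≤ centralizer ({b} : Set G) := by
        apply sup_le
        · intro y hy
          rw [Subgroup.mem_centralizer_singleton_iff]
          exact (hBY b (hB'B hb) y hy).symm
        · rw [Subgroup.zpowers_le, Subgroup.mem_centralizer_singleton_iff]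
          exact ((hB'mem b).1 hb).2.symm
      have h := h1 hy
      rw [Subgroup.mem_centralizer_singleton_iff] at h
      exact h.symm
    obtain ⟨x', hx'M, hx'p, hx'A, hx'card, hx'f⟩ := ih B' (Y ⊔ zpowers x0) (hB'B.trans hBA)
      (sup_le hYM hzM) hB' hB'Y'
    have hsup : (⨆ i, zpowers ((Fin.cons x0 x' : Fin (k+1) → G) i))
        = zpowers x0 ⊔ ⨆ i, zpowers (x' i) := by
      apply le_antisymm
      · apply iSup_le
        intro i
        refine Fin.cases ?_ (fun j => ?_) i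
        · rw [Fin.cons_zero]; exact le_sup_left
        · rw [Fin.cons_succ]
          exact le_sup_of_le_right (le_iSup (fun i => zpowers (x' i)) j)
      · apply sup_le
        · have := le_iSup (fun i => zpowers ((Fin.cons x0 x' : Fin (k+1) → G) i)) 0
          simpa using this
        · apply iSup_le
          intro j
          have := le_iSup (fun i => zpowers ((Fin.cons x0 x' : Fin (k+1) → G) i)) j.succ
          simpa using this
    refine ⟨Fin.cons x0 x', ?_, ?_, ?_, ?_, ?_⟩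
    · intro i
      refine Fin.cases ?_ (fun j => ?_) i
      · rw [Fin.cons_zero]; exact hx0M
      · rw [Fin.cons_succ]; exact hx'M j
    · intro i
      refine Fin.cases ?_ (fun j => ?_) i
      · rw [Fin.cons_zero]; exact hx0p
      · rw [Fin.cons_succ]; exact hx'p j
    · intro i
      refine Fin.cases ?_ (fun j => ?_) i
      · rw [Fin.cons_zero]; exact hx0A
      · rw [Fin.cons_succ]; exact hx'A j
    · rw [hsup, ← sup_assoc, hx'card, hcardY', Fin.prod_univ_succ, Fin.cons_zero, mul_assoc]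
      simp only [Fin.cons_succ]
    · intro b hb hbx
      apply hx'f b
      · refine (hB'mem b).2 ⟨hb, ?_⟩
        have := hbx 0
        rwa [Fin.cons_zero] at this
      · intro i
        have := hbx i.succ
        rwa [Fin.cons_succ] at this

theorem td_main {G : Type*} [Group G] [Finite G] (F A : Subgroup G)
    (hFn : Group.IsNilpotent ↥F) (hodd : Odd (Nat.card ↥F)) (hA2 : ∀ a ∈ A, a * a = 1)
    (hAF : A ≤ normalizer (F : Set G))
    (hfaith : ∀ a ∈ A, (∀ f ∈ F, a * f = f * a) → a = 1) (d : ℕ) (hd : Nat.card ↥A = 2 ^ d) :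
    ∃ x : Fin d → G, (∀ i, x i ∈ F) ∧ (∀ i, (orderOf (x i)).Prime) ∧
      (∀ i j, x i * x j = x j * x i) ∧
      (∀ i, ∀ a ∈ A, a * x i * a⁻¹ = x i ∨ a * x i * a⁻¹ = (x i)⁻¹) ∧
      Nat.card ↥(⨆ i, zpowers (x i)) = ∏ i, orderOf (x i) ∧
      (∀ a ∈ A, (∀ i, a * x i = x i * a) → a = 1) := by
  obtain ⟨M, hMF, hMc, hAM, hMf⟩ := td_exists_abelian F A hFn hodd hA2 hAF hfaith
  have hMo : Odd (Nat.card ↥M) := Odd.of_dvd_nat hodd (Subgroup.card_dvd_of_le hMF)
  obtain ⟨x, h1, h2, h3, h4, h5⟩ := td_greedy M A hMo hMc hA2 hAM hMf d A ⊥ le_rfl bot_le hd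
    (by
      intro b _ y hy
      rw [Subgroup.mem_bot] at hy
      rw [hy, mul_one, one_mul])
  refine ⟨x, fun i => hMF (h1 i), h2, fun i j => hMc _ (h1 i) _ (h1 j), h3, ?_, h5⟩
  rw [bot_sup_eq, Subgroup.card_bot, one_mul] at h4
  exact h4

lemma td_centralizes {G : Type*} [Group G] (F M : Subgroup G) (hodd : Odd (Nat.card ↥F))
    (hFM : F ≤ normalizer (M : Set G)) (hCM : F ⊓ centralizer (M : Set G) ≤ M) (t : G)
    (htt : t * t = 1) (htF : ∀ f ∈ F, t * f * t⁻¹ ∈ F) (htM : ∀ m ∈ M, t * m = m * t) :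
    ∀ f ∈ F, t * f = f * t := by
  intro f hf
  have ht' : t⁻¹ = t := inv_eq_of_mul_eq_one_left htt
  obtain ⟨f', hf'⟩ : ∃ f', f' = t * f * t⁻¹ := ⟨_, rfl⟩
  have hf'F : f' ∈ F := hf' ▸ htF f hf
  have hmC : f⁻¹ * f' ∈ F ⊓ centralizer (M : Set G) := by
    refine Subgroup.mem_inf.2 ⟨F.mul_mem (F.inv_mem hf) hf'F, ?_⟩
    rw [Subgroup.mem_centralizer_iff]
    intro y hy
    have h1 : f * y * f⁻¹ ∈ M := td_conj_mem hFM hf hy
    have h2 := htM _ h1
    have h3 := htM _ hy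
    have h4 : f' * y * f'⁻¹ = f * y * f⁻¹ := by
      have h3' : t⁻¹ * y * t = y := by
        rw [mul_assoc, ← h3, ← mul_assoc, inv_mul_cancel, one_mul]
      calc f' * y * f'⁻¹ = t * (f * (t⁻¹ * y * t) * f⁻¹) * t⁻¹ := by rw [hf']; group
        _ = t * (f * y * f⁻¹) * t⁻¹ := by rw [h3']
        _ = f * y * f⁻¹ := by rw [h2, mul_assoc, mul_inv_cancel, mul_one]
    calc y * (f⁻¹ * f') = f⁻¹ * (f * y * f⁻¹) * f' := by group
      _ = f⁻¹ * (f' * y * f'⁻¹) * f' := by rw [h4]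
      _ = f⁻¹ * f' * y := by group
  have hmM : f⁻¹ * f' ∈ M := hCM hmC
  have h5 := htM _ hmM
  have h6 : t * f' * t⁻¹ = f := by
    rw [hf', ht']
    calc t * (t * f * t) * t = (t * t) * f * (t * t) := by group
      _ = f := by rw [htt]; group
  have h7 : (f⁻¹ * f') * (f⁻¹ * f') = 1 := by
    have h8 : t * f' * t⁻¹ = f' * (f⁻¹ * f') := by
      calc t * f' * t⁻¹ = (t * f * t⁻¹) * (t * (f⁻¹ * f')) * t⁻¹ := by group
        _ = f' * ((f⁻¹ * f') * t) * t⁻¹ := by rw [h5, ← hf']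
        _ = f' * (f⁻¹ * f') := by group
    rw [h6] at h8
    calc (f⁻¹ * f') * (f⁻¹ * f') = f⁻¹ * (f' * (f⁻¹ * f')) := by group
      _ = f⁻¹ * f := by rw [← h8]
      _ = 1 := inv_mul_cancel f
  have h9 : f⁻¹ * f' = 1 := td_eq_one_of_sq F hodd (F.mul_mem (F.inv_mem hf) hf'F) h7
  have h10 : f' = f := by
    rw [inv_mul_eq_one] at h9
    exact h9.symm
  rw [hf'] at h10
  exact mul_inv_eq_iff_eq_mul.1 h10

end Cfsg.Agent.Lib.Helper21
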